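import Cfsg.Agent.H42.Eqv.Dual

/-!
The base case: every non-zero quadratic element has its kernel equal to its image, and one image
is invariant under the acting group.
-/

set_option autoImplicit false
set_option linter.unusedSectionVars false

namespace Cfsg.Agent.H42.Eqv

open Cfsg.Agent.H88 Matrix Thompson

universe u v

section act

variable (k : Type v) [Field k] (M : Type u) [AddCommGroup M] [Module k M]

/-- Conjugation on endomorphisms. -/
@[reducible] def conjEAct : MulAction (LinearMap.GeneralLinearGroup k M) (Module.End k M) where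
  smul := conjE
  one_smul := conjE_one
  mul_smul g h T := (conjE_conjE g h T).symm

end act

variable {p : ℕ} [Fact p.Prime] {M : Type u} [AddCommGroup M] [Module (ZMod p) M] [Finite M]
  {X A : Subgroup (LinearMap.GeneralLinearGroup (ZMod p) M)}

instance finite_end : Finite (Module.End (ZMod p) M) := Finite.of_injective _ DFunLike.coe_injective

theorem conjE_apply (g : LinearMap.GeneralLinearGroup (ZMod p) M) (T : Module.End (ZMod p) M) (x : M) :
    conjE g T x = (g : Module.End (ZMod p) M) (T ((g⁻¹ : LinearMap.GeneralLinearGroup (ZMod p) M).val x)) := rfl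

theorem val_inv_val (g : LinearMap.GeneralLinearGroup (ZMod p) M) (x : M) :
    (g : Module.End (ZMod p) M) ((g⁻¹ : LinearMap.GeneralLinearGroup (ZMod p) M).val x) = x := by
  rw [← Module.End.mul_apply, Units.mul_inv, Module.End.one_apply]

/-- The idempotents onto a given subspace whose torus element lies in the group. -/
def Projs (X : Subgroup (LinearMap.GeneralLinearGroup (ZMod p) M)) (U : Submodule (ZMod p) M) :
    Set (Module.End (ZMod p) M) :=
  {π | (∀ m, π m ∈ U) ∧ (∀ u ∈ U, π u = u) ∧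
    ∃ g ∈ X, (g : Module.End (ZMod p) M) = (2 : ZMod p) • π + (2 : ZMod p)⁻¹ • (1 - π)}

theorem projs_conj {U : Submodule (ZMod p) M} {g : LinearMap.GeneralLinearGroup (ZMod p) M}
    (hg : g ∈ Subgroup.normalizer (X : Set (LinearMap.GeneralLinearGroup (ZMod p) M)))
    (h1 : ∀ u ∈ U, (g : Module.End (ZMod p) M) u ∈ U)
    (h2 : ∀ u ∈ U, (g⁻¹ : LinearMap.GeneralLinearGroup (ZMod p) M).val u ∈ U)
    {π : Module.End (ZMod p) M} (hπ : π ∈ Projs X U) : conjE g π ∈ Projs X U := by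
  obtain ⟨hm, hu, x, hx, e⟩ := hπ
  refine ⟨fun m => ?_, fun u hu' => ?_, g * x * g⁻¹, (Subgroup.mem_normalizer_iff.mp hg x).mp hx, ?_⟩
  · rw [conjE_apply]; exact h1 _ (hm _)
  · rw [conjE_apply, hu _ (h2 u hu'), val_inv_val]
  · rw [Units.val_mul, Units.val_mul, e]
    simp [conjE, mul_add, add_mul, mul_sub, sub_mul]

theorem proj_mul {U : Submodule (ZMod p) M} {π π' : Module.End (ZMod p) M} (hπ : π ∈ Projs X U)
    (hπ' : π' ∈ Projs X U) : π' * π = π := LinearMap.ext fun m => hπ'.2.1 _ (hπ.1 m)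

/-- Two such idempotents differ by a quadratic element. -/
theorem projs_diff (hp : 5 ≤ p) {U : Submodule (ZMod p) M} {π π' : Module.End (ZMod p) M}
    (hπ : π ∈ Projs X U) (hπ' : π' ∈ Projs X U) :
    Rt X (π' - π) ∧ (∀ u ∈ U, (π' - π) u = 0) ∧ ∀ m, (π' - π) m ∈ U := by
  have h1 := proj_mul hπ hπ'
  have h2 := proj_mul hπ' hπ
  have h3 := proj_mul hπ hπ
  have h4 := proj_mul hπ' hπ'
  have hsq : (π' - π) * (π' - π) = 0 := by rw [sub_mul, mul_sub, mul_sub, h1, h2, h3, h4]; abel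
  obtain ⟨g, hg, e⟩ := hπ.2.2
  obtain ⟨g', hg', e'⟩ := hπ'.2.2
  refine ⟨rt_of_smul (three_ne hp) hsq (X.mul_mem hg' (X.inv_mem hg)) ?_,
    fun u hu => by rw [LinearMap.sub_apply, hπ.2.1 u hu, hπ'.2.1 u hu, sub_self],
    fun m => U.sub_mem (hπ'.1 m) (hπ.1 m)⟩
  set i : ZMod p := (2 : ZMod p)⁻¹
  have hi : (2 : ZMod p) * i = 1 := mul_inv_cancel₀ (two_ne hp)
  have hi' : i * 2 = 1 := by rw [mul_comm, hi]
  have k1 : π * (1 - π) = 0 := by rw [mul_sub, mul_one, h3, sub_self]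
  have k2 : (1 - π) * π = 0 := by rw [sub_mul, one_mul, h3, sub_self]
  have k3 : (1 - π) * (1 - π) = 1 - π := IsIdempotentElem.one_sub h3
  have hinv : ((g⁻¹ : LinearMap.GeneralLinearGroup (ZMod p) M) : Module.End (ZMod p) M)
      = i • π + (2 : ZMod p) • (1 - π) := by
    refine Units.inv_eq_of_mul_eq_one_right ?_
    rw [e]
    simp only [add_mul, mul_add, smul_mul_smul_comm, h3, k1, k2, k3, smul_zero, add_zero, zero_add, hi, hi',
      one_smul]
    abel
  rw [Units.val_mul, hinv, e']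
  have m1 : π' * (1 - π) = π' - π := by rw [mul_sub, mul_one, h1]
  have m2 : (1 - π') * π = 0 := by rw [sub_mul, one_mul, h1, sub_self]
  have m3 : (1 - π') * (1 - π) = 1 - π' := by rw [sub_mul, mul_sub, mul_sub, one_mul, mul_one, h1]; simp
  simp only [add_mul, mul_add, smul_mul_smul_comm, h1, m1, m2, m3, smul_zero, add_zero, zero_add, hi, hi',
    one_smul]
  module

/-- A dual partner gives an idempotent of the family. -/
theorem mul_mem_projs (hp : 5 ≤ p) {U : Submodule (ZMod p) M} {T F : Module.End (ZMod p) M}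
    (d : Dual T F) (hT : Rt X T) (hF : Rt X F) (hU : LinearMap.range T = U) : T * F ∈ Projs X U := by
  refine ⟨fun m => hU ▸ ⟨F m, rfl⟩, fun u hu => ?_, ?_⟩
  · obtain ⟨m, rfl⟩ : u ∈ LinearMap.range T := hU ▸ hu
    exact congrArg (fun f : Module.End (ZMod p) M => f m) d.TFT
  · let γ : SpecialLinearGroup (Fin 2) (ZMod p) :=
      ⟨!![2, 0; 0, (2 : ZMod p)⁻¹], by simp [Matrix.det_fin_two, two_ne hp]⟩
    refine ⟨pairHom d γ, pairHom_le d hT hF ⟨γ, rfl⟩, ?_⟩
    rw [pairHom_val]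
    simp [pairVal, γ, d.FT_eq]

set_option maxHeartbeats 1600000 in
/-- The base case. -/
theorem base (hp : 5 ≤ p) [Nontrivial M]
    (hAX : A ≤ Subgroup.normalizer (X : Set (LinearMap.GeneralLinearGroup (ZMod p) M)))
    (hcop : (Nat.card A).Coprime (Nat.card X)) (hsolv : Group.IsSolvable A)
    {A0 : Module.End (ZMod p) M} (hA0 : IsMin X A0)
    (hAU : ∀ a ∈ A, ∀ u ∈ LinearMap.range A0, (a : Module.End (ZMod p) M) u ∈ LinearMap.range A0)
    (hdual : ∀ T, Rt X T → T ≠ 0 → ∃ F, Rt X F ∧ Dual T F) :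
    HasSection (Matrix.ProjectiveSpecialLinearGroup (Fin 2) (ZMod p))
      ↥(X ⊓ Subgroup.centralizer (A : Set (LinearMap.GeneralLinearGroup (ZMod p) M))) := by
  classical
  letI : MulAction (LinearMap.GeneralLinearGroup (ZMod p) M) (Module.End (ZMod p) M) := conjEAct (ZMod p) M
  set U := LinearMap.range A0 with hUdef
  have hker : LinearMap.ker A0 = U := by
    obtain ⟨F, -, d⟩ := hdual A0 hA0.rt hA0.2.1
    refine le_antisymm (fun m hm => ?_) (range_le_ker hA0.sq)
    refine ⟨F m, ?_⟩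
    have h := congrArg (fun f : Module.End (ZMod p) M => f m) d.sum
    simpa [LinearMap.mem_ker.mp hm] using h
  -- the acting group normalises the root group
  set E := rootGroup X A0 hA0.sq with hE
  have hEX : E ≤ X := rootGroup_le hA0.sq
  have hEU : ∀ g ∈ E, ∀ u ∈ U, (g : Module.End (ZMod p) M) u = u := by
    intro g hg u hu
    have := LinearMap.mem_ker.mp ((mem_rootGroup.mp hg).2.1 (hker.symm ▸ hu))
    exact sub_eq_zero.mp this
  have hUmap : ∀ a ∈ A, U.map (a : Module.End (ZMod p) M) = U := by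
    intro a ha
    refine le_antisymm (Submodule.map_le_iff_le_comap.mpr (hAU a ha)) fun u hu => ?_
    exact ⟨_, hAU a⁻¹ (A.inv_mem ha) u hu, val_inv_val a u⟩
  have hAE : A ≤ Subgroup.normalizer (E : Set (LinearMap.GeneralLinearGroup (ZMod p) M)) := fun a ha => by
    refine Coprime.mem_normalizer_of_map_conj ?_
    rw [hE, map_rootGroup_norm (hAX ha) hA0]
    refine rootGroup_congr ?_ ?_
    · rw [ker_conjE, hker, hUmap a ha]
    · rw [range_conjE, ← hUdef, hUmap a ha]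
  -- a fixed idempotent
  obtain ⟨π0, hπ0, hfix0⟩ : ∃ π ∈ Projs X U, ∀ a ∈ A, conjE a π = π := by
    refine Coprime.exists_fixed_point (K := E) (X := Module.End (ZMod p) M) hAE
      (hcop.coprime_dvd_right (Subgroup.card_dvd_of_le hEX)) (Or.inl hsolv) ?_ ?_ ?_ ?_
    · obtain ⟨F, hF, d⟩ := hdual A0 hA0.rt hA0.2.1
      exact ⟨_, mul_mem_projs hp d hA0.rt hF rfl⟩
    · exact fun a ha π hπ => projs_conj (hAX ha) (hAU a ha) (hAU a⁻¹ (A.inv_mem ha)) hπ
    · intro π hπ π' hπ'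
      obtain ⟨hR, hku, hru⟩ := projs_diff hp hπ hπ'
      set T := π' - π with hT
      have hTmem : -T ∈ rootSpace X A0 hA0.sq := by
        refine Submodule.neg_mem _ ⟨hR, fun u hu => LinearMap.mem_ker.mpr (hku u (hker ▸ hu)), ?_⟩
        rintro _ ⟨m, rfl⟩; exact hru m
      refine ⟨oneAdd (-T) hTmem.1.sq, oneAdd_mem_rootGroup hTmem, ?_⟩
      show conjE _ π = π'
      rw [conjE_oneAdd, sub_neg_eq_add]
      have e1 : T * π = 0 := by rw [hT, sub_mul, proj_mul hπ hπ', proj_mul hπ hπ, sub_self]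
      have e2 : π * T = T := by rw [hT, mul_sub, proj_mul hπ' hπ, proj_mul hπ hπ]
      simp only [add_mul, one_mul, neg_mul, e1, neg_zero, add_zero, mul_add, mul_one, e2]
      rw [hT]; abel
    · intro g hg π hπ
      refine projs_conj (Subgroup.le_normalizer (hEX hg)) (fun u hu => (hEU g hg u hu).symm ▸ hu)
        (fun u hu => (hEU g⁻¹ (E.inv_mem hg) u hu).symm ▸ hu) hπ
  have hπ2 : π0 * π0 = π0 := proj_mul hπ0 hπ0
  -- the space of quadratic elements between the two subspaces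
  let 𝒜 : Submodule (ZMod p) (Module.End (ZMod p) M) :=
    { carrier := {T | Rt X T ∧ π0 * T = T ∧ T * π0 = 0}
      zero_mem' := ⟨Rt.zero, mul_zero _, zero_mul _⟩
      add_mem' := fun {T R} hT hR => by
        have h : ∀ {T R : Module.End (ZMod p) M}, T * π0 = 0 → π0 * R = R → T * R = 0 := fun h1 h2 => by
          rw [← h2, ← mul_assoc, h1, zero_mul]
        exact ⟨hT.1.add hR.1 (h hT.2.2 hR.2.1) (h hR.2.2 hT.2.1), by rw [mul_add, hT.2.1, hR.2.1],
          by rw [add_mul, hT.2.2, hR.2.2, add_zero]⟩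
      smul_mem' := fun c T hT => ⟨hT.1.smul c, by rw [mul_smul_comm, hT.2.1],
        by rw [smul_mul_assoc, hT.2.2, smul_zero]⟩ }
  have hA0m : A0 ∈ 𝒜 := by
    refine ⟨hA0.rt, LinearMap.ext fun m => hπ0.2.1 _ ⟨m, rfl⟩, LinearMap.ext fun m => ?_⟩
    exact LinearMap.mem_ker.mp (show π0 m ∈ LinearMap.ker A0 by rw [hker]; exact hπ0.1 m)
  have hrange : ∀ T ∈ 𝒜, T ≠ 0 → LinearMap.range T = U := by
    intro T hT hne
    refine Submodule.eq_of_le_of_finrank_le ?_ (hA0.2.2 T hT.1 hne)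
    rintro _ ⟨m, rfl⟩
    rw [← hT.2.1]
    exact hπ0.1 _
  have hkill : ∀ T ∈ 𝒜, ∀ u ∈ U, T u = 0 := by
    intro T hT u hu
    rw [← hπ0.2.1 u hu, ← Module.End.mul_apply, hT.2.2, LinearMap.zero_apply]
  -- partners
  have hplus : ∀ T ∈ 𝒜, T ≠ 0 → ∃ F, Rt X F ∧ Dual T F ∧ T * F = π0 := by
    intro T hT hne
    obtain ⟨F, hF, d⟩ := hdual T hT.1 hne
    have hπ := mul_mem_projs hp d hT.1 hF (hrange T hT hne)
    obtain ⟨hR, hku, hru⟩ := projs_diff hp hπ hπ0
    set S := π0 - T * F with hS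
    have hS2 : (-S) * (-S) = 0 := by rw [neg_mul_neg, hR.sq]
    have hg : oneAdd (-S) hS2 ∈ X := hR.neg.oneAdd_mem
    have hfT : conjE (oneAdd (-S) hS2) T = T := by
      rw [conjE_oneAdd, sub_neg_eq_add]
      have a1 : S * T = 0 := LinearMap.ext fun m => hku _ (hrange T hT hne ▸ ⟨m, rfl⟩)
      have a2 : T * S = 0 := LinearMap.ext fun m => hkill T hT _ (hru m)
      simp only [add_mul, one_mul, neg_mul, a1, neg_zero, add_zero, mul_add, mul_one, a2]
    refine ⟨conjE (oneAdd (-S) hS2) F, hF.conj hg, hfT ▸ d.conj _, ?_⟩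
    conv_lhs => rw [← hfT]
    rw [conjE_mul, conjE_oneAdd, sub_neg_eq_add]
    have e1 : S * (T * F) = 0 := by rw [hS, sub_mul, proj_mul hπ hπ0, d.idem, sub_self]
    have e2 : T * F * S = S := by rw [hS, mul_sub, proj_mul hπ0 hπ, d.idem]
    simp only [add_mul, one_mul, neg_mul, e1, neg_zero, add_zero, mul_add, mul_one, e2]
    rw [hS]; abel
  choose! plus hplusR hplusD hplusP using hplus
  have facts : ∀ T ∈ 𝒜, T ≠ 0 → plus T * π0 = plus T ∧ π0 * plus T = 0 ∧ plus T * T = 1 - π0 := by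
    intro T hT hne
    have d := hplusD T hT hne
    refine ⟨?_, ?_, ?_⟩
    · rw [← hplusP T hT hne, ← mul_assoc, d.FTF]
    · rw [← hplusP T hT hne, mul_assoc, d.sqF, mul_zero]
    · rw [d.FT_eq, hplusP T hT hne]
  have hzero : ∀ T ∈ 𝒜, ∀ R ∈ 𝒜, T * R = 0 := fun T hT R hR => by
    rw [← hR.2.1, ← mul_assoc, hT.2.2, zero_mul]
  have hzero' : ∀ T ∈ 𝒜, T ≠ 0 → ∀ R ∈ 𝒜, R ≠ 0 → plus T * plus R = 0 := fun T hT hT0 R hR hR0 => by
    rw [← (facts T hT hT0).1, mul_assoc, (facts R hR hR0).2.1, mul_zero]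
  -- the products of two Weyl elements
  set N : Subgroup (LinearMap.GeneralLinearGroup (ZMod p) M) :=
    X ⊓ MulAction.stabilizer (LinearMap.GeneralLinearGroup (ZMod p) M) π0 with hN
  have hpair : ∀ T ∈ 𝒜, T ≠ 0 → ∀ S ∈ 𝒜, S ≠ 0 → ∃ u ∈ N, ∀ R ∈ 𝒜,
      conjE u R = T * plus S * R * plus S * T := by
    intro T hT hT0 S hS hS0
    set F := plus T with hFd
    set G := plus S with hGd
    obtain ⟨fF1, fF2, fF3⟩ := facts T hT hT0
    obtain ⟨fG1, fG2, fG3⟩ := facts S hS hS0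
    let w : SpecialLinearGroup (Fin 2) (ZMod p) := ⟨!![0, 1; -1, 0], by simp [Matrix.det_fin_two]⟩
    let wT := pairHom (hplusD T hT hT0) w
    let wS := pairHom (hplusD S hS hS0) w
    have hwT : (wT : Module.End (ZMod p) M) = T - F := by
      rw [pairHom_val]; simp [pairVal, w, sub_eq_add_neg, ← hFd]
    have hwS : (wS : Module.End (ZMod p) M) = S - G := by
      rw [pairHom_val]; simp [pairVal, w, sub_eq_add_neg, ← hGd]
    have hTS : T * S = 0 := hzero T hT S hS
    have hFG : F * G = 0 := hzero' T hT hT0 S hS hS0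
    have hv : ((wT * wS : LinearMap.GeneralLinearGroup (ZMod p) M) : Module.End (ZMod p) M)
        = -(T * G + F * S) := by
      rw [Units.val_mul, hwT, hwS, sub_mul, mul_sub, mul_sub, hTS, hFG]; abel
    have hv' : (((wT * wS)⁻¹ : LinearMap.GeneralLinearGroup (ZMod p) M) : Module.End (ZMod p) M)
        = -(S * F + G * T) := by
      refine Units.inv_eq_of_mul_eq_one_right ?_
      rw [hv, neg_mul_neg]
      have q1 : T * G * (S * F) = π0 := by
        rw [mul_assoc, ← mul_assoc G S F, fG3, sub_mul, one_mul, mul_sub, ← mul_assoc T π0 F, hT.2.2,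
          zero_mul, sub_zero, hplusP T hT hT0]
      have q2 : T * G * (G * T) = 0 := by
        rw [mul_assoc, ← mul_assoc G G T, (hplusD S hS hS0).sqF, zero_mul, mul_zero]
      have q3 : F * S * (S * F) = 0 := by
        rw [mul_assoc, ← mul_assoc S S F, hS.1.sq, zero_mul, mul_zero]
      have q4 : F * S * (G * T) = 1 - π0 := by
        rw [mul_assoc, ← mul_assoc S G T, hplusP S hS hS0, ← mul_assoc, fF1, fF3]
      rw [add_mul, mul_add, mul_add, q1, q2, q3, q4]; abel
    refine ⟨wT * wS, ⟨X.mul_mem (pairHom_le _ hT.1 (hplusR T hT hT0) ⟨w, rfl⟩)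
      (pairHom_le _ hS.1 (hplusR S hS hS0) ⟨w, rfl⟩), ?_⟩, fun R hR => ?_⟩
    · show conjE _ π0 = π0
      have hc : -(T * G + F * S) * π0 = π0 * -(T * G + F * S) := by
        rw [neg_mul, mul_neg, add_mul, mul_add, mul_assoc, fG1, mul_assoc F, hS.2.2, mul_zero,
          ← mul_assoc π0 T, hT.2.1, ← mul_assoc π0 F, fF2, zero_mul]
      rw [conjE, hv, hc, ← hv, mul_assoc, Units.mul_inv, mul_one]
    · rw [conjE, hv, hv', neg_mul, mul_neg, neg_mul, neg_neg]
      have r1 : R * S = 0 := hzero R hR S hS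
      have r2 : S * R = 0 := hzero S hS R hR
      rw [add_mul, mul_assoc F, r2, mul_zero, add_zero, mul_add, ← mul_assoc (T * G * R) S,
        mul_assoc (T * G) R S, r1, mul_zero, zero_mul, zero_add, ← mul_assoc]
  have hN𝒜 : ∀ g ∈ N, ∀ T ∈ 𝒜, conjE g T ∈ 𝒜 := by
    rintro g ⟨hgX, hgπ⟩ T ⟨h1, h2, h3⟩
    have e : conjE g π0 = π0 := hgπ
    refine ⟨h1.conj hgX, ?_, ?_⟩
    · conv_lhs => rw [← e]
      rw [conjE_mul, h2]
    · conv_lhs => rw [← e]
      rw [conjE_mul, h3, conjE_zero]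
  -- orbits
  let s : Finset (Module.End (ZMod p) M) := (Set.toFinite {T | T ∈ 𝒜 ∧ T ≠ 0}).toFinset
  let O : Module.End (ZMod p) M → Finset (Module.End (ZMod p) M) := fun S =>
    (Set.toFinite ((fun g => conjE g S) '' (N : Set (LinearMap.GeneralLinearGroup (ZMod p) M)))).toFinset
  have hs : ∀ {T}, T ∈ s ↔ T ∈ 𝒜 ∧ T ≠ 0 := fun {T} => by simp [s]
  have hO : ∀ {S T}, T ∈ O S ↔ ∃ g ∈ N, conjE g S = T := fun {S T} => by simp [O]
  have hOs : ∀ {S}, S ∈ s → O S ⊆ s := by
    intro S hS T hT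
    obtain ⟨g, hg, rfl⟩ := hO.mp hT
    exact hs.mpr ⟨hN𝒜 g hg S (hs.mp hS).1, fun e => (hs.mp hS).2 ((conjE_eq_zero_iff g S).mp e)⟩
  have hOeq : ∀ {S T}, T ∈ O S → ∀ {R}, R ∈ O T → R ∈ O S := by
    intro S T hT R hR
    obtain ⟨g, hg, rfl⟩ := hO.mp hT
    obtain ⟨h, hh, rfl⟩ := hO.mp hR
    exact hO.mpr ⟨h * g, N.mul_mem hh hg, (conjE_conjE h g S).symm⟩
  have hOsymm : ∀ {S T}, T ∈ O S → S ∈ O T := by
    intro S T hT
    obtain ⟨g, hg, rfl⟩ := hO.mp hT
    exact hO.mpr ⟨g⁻¹, N.inv_mem hg, by rw [conjE_conjE, inv_mul_cancel, conjE_one]⟩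
  have hsize : ∀ {S}, S ∈ s → s.card ≤ 2 * (O S).card := by
    intro S hS
    obtain ⟨hSm, hS0⟩ := hs.mp hS
    set G := plus S with hGd
    obtain ⟨fG1, fG2, fG3⟩ := facts S hSm hS0
    have hf : ∀ T ∈ s, T * G * T ∈ O S := by
      intro T hT
      obtain ⟨u, hu, he⟩ := hpair T (hs.mp hT).1 (hs.mp hT).2 S hSm hS0
      refine hO.mpr ⟨u, hu, ?_⟩
      rw [he S hSm, ← hGd, mul_assoc T G S, fG3, mul_sub, mul_one, (hs.mp hT).1.2.2, sub_zero]
    refine le_trans (Finset.card_le_mul_card_image (f := fun T => T * G * T) s 2 ?_)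
      (Nat.mul_le_mul_left 2 (Finset.card_le_card (Finset.image_subset_iff.mpr hf)))
    intro b hb
    obtain ⟨T, hT, hTb⟩ := Finset.mem_image.mp hb
    refine le_trans (Finset.card_le_card (t := {T, -T}) ?_) Finset.card_le_two
    intro R hR
    simp only [Finset.mem_filter] at hR
    rw [Finset.mem_insert, Finset.mem_singleton]
    obtain ⟨hTm, hT0⟩ := hs.mp hT
    obtain ⟨hRm, hR0⟩ := hs.mp hR.1
    let J : Module.End (ZMod p) M →ₗ[ZMod p] Module.End (ZMod p) M :=
      { toFun := fun T => T * G + G * T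
        map_add' := fun a b => by simp [add_mul, mul_add]; abel
        map_smul' := fun c a => by simp }
    have hJu : ∀ Q ∈ 𝒜, Q ≠ 0 → IsUnit (J Q) := by
      intro Q hQ hQ0
      set F := plus Q
      obtain ⟨fF1, fF2, fF3⟩ := facts Q hQ hQ0
      have c1 : ∀ {a b a' b' : Module.End (ZMod p) M}, a ∈ 𝒜 → b ∈ 𝒜 → a' * π0 = a' → π0 * b' = 0 →
          a * b' = π0 → a' * b = 1 - π0 → b * a' = π0 → a' * a' = 0 → a' * b' = 0 → b' * a' = 0 →
          (a * a' + a' * a) * (b * b' + b' * b) = 1 := by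
        intro a b a' b' ha hb h1 h2 h3 h4 h5 h6 h7 h8
        have t1 : a * a' * (b * b') = π0 := by
          rw [mul_assoc, ← mul_assoc a' b b', h4, sub_mul, one_mul, mul_sub, ← mul_assoc a π0 b', ha.2.2,
            zero_mul, sub_zero, h3]
        have t2 : a * a' * (b' * b) = 0 := by rw [mul_assoc, ← mul_assoc a' b' b, h7, zero_mul, mul_zero]
        have t3 : a' * a * (b * b') = 0 := by
          rw [mul_assoc, ← mul_assoc a b b', hzero a ha b hb, zero_mul, mul_zero]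
        have t4 : a' * a * (b' * b) = 1 - π0 := by
          rw [mul_assoc, ← mul_assoc a b' b, h3, ← mul_assoc, h1, h4]
        rw [add_mul, mul_add, mul_add, t1, t2, t3, t4]; abel
      have hGG : G * G = 0 := (hplusD S hSm hS0).sqF
      have hFF : F * F = 0 := (hplusD Q hQ hQ0).sqF
      have hGF : G * F = 0 := hzero' S hSm hS0 Q hQ hQ0
      have hFG : F * G = 0 := hzero' Q hQ hQ0 S hSm hS0
      exact ⟨⟨J Q, S * F + F * S,
        c1 hQ hSm fG1 fF2 (hplusP Q hQ hQ0) fG3 (hplusP S hSm hS0) hGG hGF hFG,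
        c1 hSm hQ fF1 fG2 (hplusP S hSm hS0) fF3 (hplusP Q hQ hQ0) hFF hFG hGF⟩, rfl⟩
    have hJ1 : J S = 1 := by
      show S * G + G * S = 1
      exact (hplusD S hSm hS0).sum
    have hJsq : ∀ Q ∈ 𝒜, ∃ Q' ∈ 𝒜, J Q' = J Q * J Q := by
      intro Q hQ
      rcases eq_or_ne Q 0 with rfl | hQ0
      · exact ⟨0, 𝒜.zero_mem, by simp⟩
      obtain ⟨u, hu, he⟩ := hpair Q hQ hQ0 S hSm hS0
      refine ⟨conjE u S, hN𝒜 u hu S hSm, ?_⟩
      rw [he S hSm, ← hGd, mul_assoc Q G S, fG3, mul_sub, mul_one, hQ.2.2, sub_zero]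
      show Q * G * Q * G + G * (Q * G * Q) = (Q * G + G * Q) * (Q * G + G * Q)
      have hGG : G * G = 0 := (hplusD S hSm hS0).sqF
      have t1 : Q * G * (G * Q) = 0 := by rw [mul_assoc, ← mul_assoc G G Q, hGG, zero_mul, mul_zero]
      have t2 : G * Q * (Q * G) = 0 := by rw [mul_assoc, ← mul_assoc Q Q G, hQ.1.sq, zero_mul, mul_zero]
      rw [add_mul, mul_add, mul_add, t1, t2]
      simp [mul_assoc]
    have hD : T - R ∈ 𝒜 := 𝒜.sub_mem hTm hRm
    have hE' : T + R ∈ 𝒜 := 𝒜.add_mem hTm hRm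
    have hanti : J (T - R) * J (T + R) + J (T + R) * J (T - R) = 0 := by
      have hGG : G * G = 0 := (hplusD S hSm hS0).sqF
      have e : T * G * T = R * G * R := by rw [hTb, hR.2]
      show ((T - R) * G + G * (T - R)) * ((T + R) * G + G * (T + R)) +
        ((T + R) * G + G * (T + R)) * ((T - R) * G + G * (T - R)) = 0
      have z : ∀ a ∈ 𝒜, ∀ b ∈ 𝒜, (a * G + G * a) * (b * G + G * b) = a * G * b * G + G * (a * G * b) := by
        intro a ha b hb
        have t1 : a * G * (G * b) = 0 := by rw [mul_assoc, ← mul_assoc G G b, hGG, zero_mul, mul_zero]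
        have t2 : G * a * (b * G) = 0 := by rw [mul_assoc, ← mul_assoc a b G, hzero a ha b hb, zero_mul, mul_zero]
        rw [add_mul, mul_add, mul_add, t1, t2]
        simp [mul_assoc]
      rw [z _ hD _ hE', z _ hE' _ hD]
      calc _ = ((T - R) * G * (T + R) + (T + R) * G * (T - R)) * G
            + G * ((T - R) * G * (T + R) + (T + R) * G * (T - R)) := by noncomm_ring
        _ = 0 := by
          rw [show (T - R) * G * (T + R) + (T + R) * G * (T - R) =
            2 • (T * G * T - R * G * R) by noncomm_ring, e]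
          simp
    have : Nontrivial (Module.End (ZMod p) M) := ⟨⟨A0, 0, hA0.2.1⟩⟩
    have hu' : ∀ x ∈ 𝒜.map J, x ≠ 0 → IsUnit x := by
      rintro _ ⟨Q, hQ, rfl⟩ hne
      exact hJu Q hQ fun e => hne (by rw [e, map_zero])
    rcases no_anticommute (two_ne hp) (𝒜.map J) ⟨S, hSm, hJ1⟩
      (by rintro _ ⟨Q, hQ, rfl⟩; exact hJsq Q hQ) hu' ⟨_, hD, rfl⟩ ⟨_, hE', rfl⟩ hanti with h | h
    · left
      by_contra hne
      exact (hJu _ hD (sub_ne_zero.mpr (Ne.symm hne))).ne_zero h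
    · right
      by_contra hne
      exact (hJu _ hE' fun e => hne (eq_neg_of_add_eq_zero_right e)).ne_zero h
  have htwo : ∀ {S T R}, S ∈ s → T ∈ s → R ∈ s → T ∉ O S → R ∉ O S → R ∈ O T := by
    intro S T R hS hT hR h1 h2
    by_contra h3
    have d1 : Disjoint (O S) (O T) :=
      Finset.disjoint_left.mpr fun x hx hx' => h1 (hOeq hx (hOsymm hx'))
    have d2 : Disjoint (O S ∪ O T) (O R) := Finset.disjoint_left.mpr fun x hx hx' => by
      rcases Finset.mem_union.mp hx with hx | hx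
      · exact h2 (hOeq hx (hOsymm hx'))
      · exact h3 (hOeq hx (hOsymm hx'))
    have hle := Finset.card_le_card (Finset.union_subset (Finset.union_subset (hOs hS) (hOs hT)) (hOs hR))
    rw [Finset.card_union_of_disjoint d2, Finset.card_union_of_disjoint d1] at hle
    have := hsize hS
    have := hsize hT
    have := hsize hR
    have : 0 < s.card := Finset.card_pos.mpr ⟨S, hS⟩
    omega
  -- the acting group has odd order and fixes an orbit
  have hodd : Odd (Nat.card A) := by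
    obtain ⟨F, hF, d⟩ := hdual A0 hA0.rt hA0.2.1
    let n1 : SpecialLinearGroup (Fin 2) (ZMod p) := ⟨!![-1, 0; 0, -1], by simp [Matrix.det_fin_two]⟩
    have h1 : pairHom d n1 ^ 2 = 1 := by
      rw [← map_pow, show n1 ^ 2 = 1 by
        rw [sq]
        refine Subtype.ext ?_
        show (!![-1, 0; 0, -1] : Matrix (Fin 2) (Fin 2) (ZMod p)) * !![-1, 0; 0, -1] = 1
        ext i j; fin_cases i <;> fin_cases j <;> simp [Matrix.mul_apply, Fin.sum_univ_two], map_one]
    have h2 : pairHom d n1 ≠ 1 := by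
      intro e
      have := congrArg (fun g : SpecialLinearGroup (Fin 2) (ZMod p) => g 0 0)
        (pairHom_injective d (e.trans (map_one _).symm))
      simp [n1] at this
      exact two_ne hp (by linear_combination -this)
    have hdvd : 2 ∣ Nat.card X :=
      (orderOf_eq_prime h1 h2) ▸ Subgroup.orderOf_dvd_natCard X (pairHom_le d hA0.rt hF ⟨n1, rfl⟩)
    refine Nat.not_even_iff_odd.mp fun he => ?_
    have := Nat.eq_one_of_dvd_coprimes hcop (even_iff_two_dvd.mp he) hdvd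
    omega
  have hNA : A ≤ Subgroup.normalizer (N : Set (LinearMap.GeneralLinearGroup (ZMod p) M)) :=
    Subgroup.le_normalizer_iff.mpr fun a ha g hg => by
      refine ⟨(Subgroup.mem_normalizer_iff.mp (hAX ha) g).mp hg.1, ?_⟩
      have e : conjE g π0 = π0 := hg.2
      show conjE (a * g * a⁻¹) π0 = π0
      rw [← conjE_conjE, hfix0 a⁻¹ (A.inv_mem ha), ← conjE_conjE, e, hfix0 a ha]
  have hA𝒜 : ∀ a ∈ A, ∀ T ∈ s, conjE a T ∈ s := by
    intro a ha T hT
    obtain ⟨⟨h1, h2, h3⟩, h0⟩ := hs.mp hT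
    refine hs.mpr ⟨⟨rt_conj_norm (hAX ha) h1, ?_, ?_⟩, fun e => h0 ((conjE_eq_zero_iff a T).mp e)⟩
    · conv_lhs => rw [← hfix0 a ha]
      rw [conjE_mul, h2]
    · conv_lhs => rw [← hfix0 a ha]
      rw [conjE_mul, h3, conjE_zero]
  have hAO : ∀ a ∈ A, ∀ {S T}, T ∈ O S → conjE a T ∈ O (conjE a S) := by
    intro a ha S T hT
    obtain ⟨g, hg, rfl⟩ := hO.mp hT
    refine hO.mpr ⟨a * g * a⁻¹, (Subgroup.mem_normalizer_iff.mp (hNA ha) g).mp hg, ?_⟩
    rw [conjE_conjE, conjE_conjE]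
    congr 1
    group
  have hSs : A0 ∈ s := hs.mpr ⟨hA0m, hA0.2.1⟩
  have hsq : ∀ a ∈ A, conjE (a * a) A0 ∈ O A0 := by
    intro a ha
    rw [← conjE_conjE]
    by_cases h : conjE a A0 ∈ O A0
    · exact hOeq h (hAO a ha h)
    · by_contra h'
      have h'' := htwo hSs (hA𝒜 a ha _ hSs) (hA𝒜 a ha _ (hA𝒜 a ha _ hSs)) h h'
      have := hAO a⁻¹ (A.inv_mem ha) h''
      simp only [conjE_conjE, inv_mul_cancel, conjE_one, inv_mul_cancel_left] at this
      exact h this
  have hpow : ∀ b ∈ A, conjE b A0 ∈ O A0 → ∀ n : ℕ, conjE (b ^ n) A0 ∈ O A0 := by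
    intro b hb h n
    induction n with
    | zero => rw [pow_zero, conjE_one]; exact hO.mpr ⟨1, N.one_mem, conjE_one A0⟩
    | succ n ih =>
      rw [pow_succ', ← conjE_conjE]
      exact hOeq h (hAO b hb ih)
  have hAfix : ∀ a ∈ A, conjE a A0 ∈ O A0 := by
    intro a ha
    have h1 : a ^ Nat.card A = 1 := congrArg Subtype.val (pow_card_eq_one' (x := (⟨a, ha⟩ : A)))
    have h2 := hpow (a * a) (A.mul_mem ha ha) (hsq a ha) ((Nat.card A + 1) / 2)
    rw [← sq, ← pow_mul, Nat.mul_div_cancel' (even_iff_two_dvd.mp hodd.add_one), pow_succ, h1, one_mul] at h2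
    exact h2
  obtain ⟨T, hT, hfixT⟩ : ∃ T ∈ (O A0 : Set (Module.End (ZMod p) M)), ∀ a ∈ A, conjE a T = T := by
    refine Coprime.exists_fixed_point (K := N) (X := Module.End (ZMod p) M) hNA
      (hcop.coprime_dvd_right (Subgroup.card_dvd_of_le inf_le_left)) (Or.inl hsolv) ?_ ?_ ?_ ?_
    · exact ⟨A0, hO.mpr ⟨1, N.one_mem, conjE_one A0⟩⟩
    · exact fun a ha R hR => hOeq (hAfix a ha) (hAO a ha hR)
    · intro R hR R' hR'
      obtain ⟨g, hg, e⟩ := hO.mp (hOeq (hOsymm hR) hR')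
      exact ⟨g, hg, e⟩
    · exact fun g hg R hR => hOeq hR (hO.mpr ⟨g, hg, rfl⟩)
  obtain ⟨hTm, hT0⟩ := hs.mp (hOs hSs hT)
  refine hasSection_of_dual (hplusD T hTm hT0) hTm.1 (hplusR T hTm hT0) hfixT fun a ha => ?_
  refine (Dual.eq_of_mul_eq (hplusD T hTm hT0) ?_ ?_).symm
  · have h := (hplusD T hTm hT0).conj a
    rwa [hfixT a ha] at h
  · calc T * plus T = conjE a (T * plus T) := by rw [hplusP T hTm hT0, hfix0 a ha]
      _ = T * conjE a (plus T) := by rw [← conjE_mul, hfixT a ha]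

end Cfsg.Agent.H42.Eqv
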