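import Cfsg.Agent.H42.Eqv.Base
import Mathlib.Algebra.CharP.Lemmas

/-!
The centraliser of an invariant involution: reduction to the base case.
-/

set_option autoImplicit false
set_option linter.unusedSectionVars false

namespace Cfsg.Agent.H42.Eqv

open Cfsg.Agent.H88 Matrix Thompson

universe u v

variable {p : ℕ} [Fact p.Prime] {M : Type u} [AddCommGroup M] [Module (ZMod p) M] [Finite M]
  {X A : Subgroup (LinearMap.GeneralLinearGroup (ZMod p) M)}

theorem mem_X_of_coords (hp : 5 ≤ p) {T B : Module.End (ZMod p) M} (h : Opp X T B) (c : Coords T B)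
    (γ : SpecialLinearGroup (Fin 2) (AdjoinRoot c.g)) : c.ψ γ ∈ X := by
  obtain ⟨hirr, eT, eB⟩ := pair_structure (two_ne hp) (card_ne_three hp) h.1 h.2.1 c
  have : c.ψ γ ∈ c.ψ.range := ⟨γ, rfl⟩
  rw [c.range_ψ (two_ne hp) (card_ne_three hp) hirr eT eB] at this
  refine (Subgroup.closure_le X).2 ?_ this
  rintro _ (⟨t, rfl⟩ | ⟨t, rfl⟩)
  · exact h.1.rt.mem t rfl
  · exact h.2.1.rt.mem t rfl

/-- When one root has kernel equal to image, all have, and partners exist. -/
theorem exists_dual (hp : 5 ≤ p) (hG : NoUnip X) {A0 : Module.End (ZMod p) M} (hA0 : IsMin X A0)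
    (hK : LinearMap.ker A0 ≤ LinearMap.range A0) :
    ∀ T, Rt X T → T ≠ 0 → ∃ F, Rt X F ∧ Dual T F := by
  intro T hT hne
  have hfr := LinearMap.finrank_range_add_finrank_ker A0
  have hle : ∀ {S : Module.End (ZMod p) M}, Rt X S → S ≠ 0 → IsMin X S ∧ LinearMap.range S = LinearMap.ker S ∧
      2 * rk S = Module.finrank (ZMod p) M := by
    intro S hS hS0
    have h1 := hA0.2.2 S hS hS0
    have h2 := LinearMap.finrank_range_add_finrank_ker S
    have h3 := Submodule.finrank_mono (range_le_ker hS.sq)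
    have h4 := Submodule.finrank_mono hK
    have h5 := Submodule.finrank_mono (range_le_ker hA0.sq)
    simp only [rk] at h1 ⊢
    refine ⟨hA0.of_rk_le hS hS0 (by simp only [rk]; omega),
      Submodule.eq_of_le_of_finrank_le (range_le_ker hS.sq) (by omega), by omega⟩
  obtain ⟨hTm, hTk, hTd⟩ := hle hT hne
  obtain ⟨B, hB, hn⟩ := exists_opposite (two_ne hp) hG hTm
  obtain ⟨-, hBk, hBd⟩ := hle hB.rt hB.2.1
  obtain ⟨c⟩ := exists_coords hT.sq hB.sq hn
  obtain ⟨hirr, eT, eB⟩ := pair_structure (two_ne hp) (card_ne_three hp) hTm hB c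
  have hPT : c.P * T = T := (c.commA 1).eq.symm.trans eT
  have hPB : c.P * B = B := (c.commB 1).eq.symm.trans eB
  have hP : c.P = 1 := by
    have hdis := c.range_inf_ker eT
    rw [← hBk] at hdis
    have htop : LinearMap.range T ⊔ LinearMap.range B = ⊤ := by
      refine Submodule.eq_top_of_finrank_eq ?_
      have := Submodule.finrank_sup_add_finrank_inf_eq (LinearMap.range T) (LinearMap.range B)
      rw [hdis, finrank_bot] at this
      simp only [rk] at hTd hBd
      omega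
    refine LinearMap.ext fun m => ?_
    obtain ⟨_, ⟨x, rfl⟩, _, ⟨y, rfl⟩, rfl⟩ :=
      Submodule.mem_sup.mp (htop ▸ Submodule.mem_top : m ∈ LinearMap.range T ⊔ LinearMap.range B)
    rw [map_add, ← Module.End.mul_apply, ← Module.End.mul_apply c.P B, hPT, hPB]
    rfl
  have hF2 : B * c.ev c.xi * (B * c.ev c.xi) = 0 := by
    rw [mul_assoc B, ← mul_assoc (c.ev c.xi) B, ← (c.commB c.xi).eq, mul_assoc B (c.ev c.xi),
      ← mul_assoc B B, hB.sq, zero_mul]
  refine ⟨B * c.ev c.xi, rt_of_mem hF2 (mem_X_of_coords hp ⟨hTm, hB, hn⟩ c _) (c.ψ_vv c.xi), hT.sq, hF2, ?_⟩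
  rw [mul_assoc B, ← (c.commA c.xi).eq, ← mul_assoc, ← mul_assoc, ← add_mul, c.C_mul_D, hP]

/-- The involution step. -/
theorem central (hp : 5 ≤ p)
    (hAX : A ≤ Subgroup.normalizer (X : Set (LinearMap.GeneralLinearGroup (ZMod p) M)))
    (hcop : (Nat.card A).Coprime (Nat.card X)) (hsolv : Group.IsSolvable A) (hG : NoUnip X)
    (hirr : ∀ W : Submodule (ZMod p) M,
      (∀ g ∈ X ⊔ A, ∀ w ∈ W, (g : Module.End (ZMod p) M) w ∈ W) → W = ⊥ ∨ W = ⊤)
    (ih : ∀ Y, Y < X → A ≤ Subgroup.normalizer (Y : Set (LinearMap.GeneralLinearGroup (ZMod p) M)) → Bad Y →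
      HasSection (Matrix.ProjectiveSpecialLinearGroup (Fin 2) (ZMod p))
        ↥(Y ⊓ Subgroup.centralizer (A : Set (LinearMap.GeneralLinearGroup (ZMod p) M))))
    {A0 : Module.End (ZMod p) M} (hA0 : IsMin X A0)
    (hU : ∀ a ∈ A, (LinearMap.range A0).map (a : Module.End (ZMod p) M) = LinearMap.range A0 ∧
      (LinearMap.ker A0).map (a : Module.End (ZMod p) M) = LinearMap.ker A0) :
    HasSection (Matrix.ProjectiveSpecialLinearGroup (Fin 2) (ZMod p))
      ↥(X ⊓ Subgroup.centralizer (A : Set (LinearMap.GeneralLinearGroup (ZMod p) M))) := by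
  letI : MulAction (LinearMap.GeneralLinearGroup (ZMod p) M) (LinearMap.GeneralLinearGroup (ZMod p) M) :=
    MulAction.compHom _ (MulAut.conj (G := LinearMap.GeneralLinearGroup (ZMod p) M))
  set U := LinearMap.range A0 with hUd
  set K := LinearMap.ker A0 with hKd
  have hUK : U ≤ K := range_le_ker hA0.sq
  haveI : Nontrivial M := by
    by_contra h
    haveI := not_nontrivial_iff_subsingleton.mp h
    exact hA0.2.1 (Subsingleton.elim _ _)
  obtain ⟨B, hB, hn⟩ := exists_opposite (two_ne hp) hG hA0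
  have hopp : Opp X A0 B := ⟨hA0, hB, hn⟩
  obtain ⟨c⟩ := exists_coords hA0.sq hB.sq hn
  obtain ⟨-, eA, eB⟩ := pair_structure (two_ne hp) (card_ne_three hp) hA0 hB c
  have hPA : c.P * A0 = A0 := (c.commA 1).eq.symm.trans eA
  have hPB : c.P * B = B := (c.commB 1).eq.symm.trans eB
  let n1 : SpecialLinearGroup (Fin 2) (AdjoinRoot c.g) := ⟨!![-1, 0; 0, -1], by simp [Matrix.det_fin_two]⟩
  set t0 := c.ψ n1 with ht0
  have ht0v : (t0 : Module.End (ZMod p) M) = 1 - (c.P + c.P) := by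
    rw [ht0, c.ψ_val]
    show c.Φ !![-1, 0; 0, -1] + (1 - c.P) = _
    rw [c.Φ_scalar, map_neg, ← Coords.P]
    abel
  have ht0sq : t0 * t0 = 1 := by
    rw [ht0, ← map_mul, show n1 * n1 = 1 by
      refine Subtype.ext ?_
      show (!![-1, 0; 0, -1] : Matrix (Fin 2) (Fin 2) (AdjoinRoot c.g)) * !![-1, 0; 0, -1] = 1
      ext i j; fin_cases i <;> fin_cases j <;> simp [Matrix.mul_apply, Fin.sum_univ_two], map_one]
  let ev' : (LinearMap.GeneralLinearGroup (ZMod p) M) → M → M := fun g m => (g : Module.End (ZMod p) M) m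
  have happ : ∀ (g h : (LinearMap.GeneralLinearGroup (ZMod p) M)) (m : M), ev' (g * h) m = ev' g (ev' h m) := fun g h m => rfl
  have hinv : ∀ (g : (LinearMap.GeneralLinearGroup (ZMod p) M)) (m : M), ev' g (ev' g⁻¹ m) = m := fun g m => val_inv_val g m
  have hinv' : ∀ (g : (LinearMap.GeneralLinearGroup (ZMod p) M)) (m : M), ev' g⁻¹ (ev' g m) = m := fun g m => by
    have := hinv g⁻¹ m; rwa [inv_inv] at this
  have hadd : ∀ (g : (LinearMap.GeneralLinearGroup (ZMod p) M)) (x y : M), ev' g (x + y) = ev' g x + ev' g y := fun g x y => map_add _ x y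
  have hsub : ∀ (g : (LinearMap.GeneralLinearGroup (ZMod p) M)) (x y : M), ev' g (x - y) = ev' g x - ev' g y := fun g x y => map_sub _ x y
  have hneg : ∀ (g : (LinearMap.GeneralLinearGroup (ZMod p) M)) (x : M), ev' g (-x) = -ev' g x := fun g x => map_neg _ x
  set 𝒯 : Set (LinearMap.GeneralLinearGroup (ZMod p) M) := {t | t ∈ X ∧ t * t = 1 ∧ (∀ u ∈ U, ev' t u = -u) ∧ (∀ v ∈ K, ev' t v - v ∈ U) ∧
    ∀ m, ev' t m + m ∈ K} with hTdef
  let W : Subgroup (LinearMap.GeneralLinearGroup (ZMod p) M) :=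
    { carrier := {g | g ∈ X ∧ (∀ u ∈ U, ev' g u = u) ∧ (∀ v ∈ K, ev' g v - v ∈ U) ∧ ∀ m, ev' g m - m ∈ K}
      one_mem' := ⟨X.one_mem, fun _ _ => rfl, fun v _ => by show v - v ∈ U; rw [sub_self]; exact U.zero_mem,
        fun m => by show m - m ∈ K; rw [sub_self]; exact K.zero_mem⟩
      mul_mem' := fun {g h} hg hh => by
        refine ⟨X.mul_mem hg.1 hh.1, fun u hu => by rw [happ, hh.2.1 u hu, hg.2.1 u hu], fun v hv => ?_,
          fun m => ?_⟩
        · rw [happ, show ev' g (ev' h v) - v = ev' g (ev' h v - v) + (ev' g v - v) by rw [hsub]; abel,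
            hg.2.1 _ (hh.2.2.1 v hv)]
          exact U.add_mem (hh.2.2.1 v hv) (hg.2.2.1 v hv)
        · rw [happ, show ev' g (ev' h m) - m =
            (ev' g (ev' h m - m) - (ev' h m - m)) + (ev' h m - m) + (ev' g m - m) by rw [hsub]; abel]
          exact K.add_mem (K.add_mem (hUK (hg.2.2.1 _ (hh.2.2.2 m))) (hh.2.2.2 m)) (hg.2.2.2 m)
      inv_mem' := fun {g} hg => by
        refine ⟨X.inv_mem hg.1, fun u hu => ?_, fun v hv => ?_, fun m => ?_⟩
        · conv_lhs => rw [← hg.2.1 u hu]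
          exact hinv' g u
        · have e := hinv g v
          have hw : ev' g⁻¹ v ∈ K := by
            have := K.sub_mem hv (hg.2.2.2 (ev' g⁻¹ v))
            rwa [e, sub_sub_cancel] at this
          have := U.neg_mem (hg.2.2.1 _ hw)
          rwa [e, neg_sub] at this
        · have := K.neg_mem (hg.2.2.2 (ev' g⁻¹ m))
          rwa [hinv, neg_sub] at this }
  have hWX : W ≤ X := fun g hg => hg.1
  -- conjugation
  let Pres : (LinearMap.GeneralLinearGroup (ZMod p) M) → Prop := fun g => (∀ u ∈ U, ev' g u ∈ U) ∧ (∀ v ∈ K, ev' g v ∈ K)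
  have hpresA : ∀ a ∈ A, Pres a := fun a ha =>
    ⟨fun u hu => (hU a ha).1 ▸ ⟨u, hu, rfl⟩, fun v hv => (hU a ha).2 ▸ ⟨v, hv, rfl⟩⟩
  have hpresW : ∀ g ∈ W, Pres g := fun g hg =>
    ⟨fun u hu => (hg.2.1 u hu).symm ▸ hu, fun v hv => by
      have := K.add_mem (hUK (hg.2.2.1 v hv)) hv; rwa [sub_add_cancel] at this⟩
  have hconjT : ∀ g, g ∈ Subgroup.normalizer (X : Set (LinearMap.GeneralLinearGroup (ZMod p) M)) → Pres g → Pres g⁻¹ → ∀ t ∈ 𝒯, g * t * g⁻¹ ∈ 𝒯 := by
    rintro g hgN hg hg' t ⟨htX, ht2, htU, htK, htM⟩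
    refine ⟨(Subgroup.mem_normalizer_iff.mp hgN t).mp htX, ?_, fun u hu => ?_, fun v hv => ?_, fun m => ?_⟩
    · calc g * t * g⁻¹ * (g * t * g⁻¹) = g * (t * t) * g⁻¹ := by simp [mul_assoc]
        _ = 1 := by rw [ht2, mul_one, mul_inv_cancel]
    · rw [happ, happ, htU _ (hg'.1 u hu), hneg, hinv]
    · rw [happ, happ, show ev' g (ev' t (ev' g⁻¹ v)) - v = ev' g (ev' t (ev' g⁻¹ v) - ev' g⁻¹ v) by
        rw [hsub, hinv]]
      exact hg.1 _ (htK _ (hg'.2 v hv))
    · rw [happ, happ, show ev' g (ev' t (ev' g⁻¹ m)) + m = ev' g (ev' t (ev' g⁻¹ m) + ev' g⁻¹ m) by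
        rw [hadd, hinv]]
      exact hg.2 _ (htM _)
  have ht0mem : t0 ∈ 𝒯 := by
    refine ⟨mem_X_of_coords hp hopp c _, ht0sq, fun u hu => ?_, fun v hv => ?_, fun m => ?_⟩
    · obtain ⟨m, rfl⟩ := hu
      show (t0 : Module.End (ZMod p) M) (A0 m) = -A0 m
      rw [ht0v, LinearMap.sub_apply, LinearMap.add_apply, ← Module.End.mul_apply c.P A0, hPA]
      simp
    · show (t0 : Module.End (ZMod p) M) v - v ∈ U
      have hPv : c.P v ∈ U := by
        refine ⟨B (c.ev c.xi v), ?_⟩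
        rw [← c.C_mul_D, Module.End.mul_apply, LinearMap.add_apply, Module.End.mul_apply B A0,
          ← Module.End.mul_apply A0 (c.ev c.xi), (c.commA c.xi).eq]
        simp [LinearMap.mem_ker.mp hv]
      rw [ht0v, LinearMap.sub_apply, Module.End.one_apply, sub_sub_cancel_left]
      exact U.neg_mem (U.add_mem hPv hPv)
    · show (t0 : Module.End (ZMod p) M) m + m ∈ K
      rw [hKd, LinearMap.mem_ker, ht0v, map_add, LinearMap.sub_apply, map_sub, LinearMap.add_apply, map_add,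
        ← Module.End.mul_apply A0 c.P, eA]
      simp
  have hexp : ∀ g ∈ W, g ^ p = 1 := by
    intro g hg
    set D : Module.End (ZMod p) M := (g : Module.End (ZMod p) M) - 1 with hD
    have h3 : D ^ 3 = 0 := by
      refine LinearMap.ext fun m => ?_
      show D (D (D m)) = 0
      have h1 : D m ∈ K := hg.2.2.2 m
      have h2 : D (D m) ∈ U := hg.2.2.1 _ h1
      exact sub_eq_zero.mpr (hg.2.1 _ h2)
    haveI : CharP (Module.End (ZMod p) M) p :=
      charP_of_injective_algebraMap (algebraMap (ZMod p) (Module.End (ZMod p) M)).injective p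
    refine Units.ext ?_
    rw [Units.val_pow_eq_pow_val, Units.val_one, show (g : Module.End (ZMod p) M) = 1 + D by rw [hD]; abel,
      add_pow_char_of_commute p (Commute.one_left D), one_pow, pow_eq_zero_of_le (by omega : 3 ≤ p) h3, add_zero]
  have hWA : A ≤ Subgroup.normalizer (W : Set (LinearMap.GeneralLinearGroup (ZMod p) M)) := Subgroup.le_normalizer_iff.mpr fun a ha g hg => by
    obtain ⟨hgX, hgU, hgK, hgM⟩ := hg
    have h := hpresA a ha
    have h' := hpresA a⁻¹ (A.inv_mem ha)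
    refine ⟨(Subgroup.mem_normalizer_iff.mp (hAX ha) g).mp hgX, fun u hu => ?_, fun v hv => ?_, fun m => ?_⟩
    · rw [happ, happ, hgU _ (h'.1 u hu), hinv]
    · rw [happ, happ, show ev' a (ev' g (ev' a⁻¹ v)) - v = ev' a (ev' g (ev' a⁻¹ v) - ev' a⁻¹ v) by
        rw [hsub, hinv]]
      exact h.1 _ (hgK _ (h'.2 v hv))
    · rw [happ, happ, show ev' a (ev' g (ev' a⁻¹ m)) - m = ev' a (ev' g (ev' a⁻¹ m) - ev' a⁻¹ m) by
        rw [hsub, hinv]]
      exact h.2 _ (hgM _)
  have htrans : ∀ t ∈ 𝒯, ∀ t' ∈ 𝒯, ∃ k ∈ W, k * t * k⁻¹ = t' := by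
    rintro t ⟨htX, ht2, htU, htK, htM⟩ t' ⟨htX', ht2', htU', htK', htM'⟩
    have hw : t * t' ∈ W := by
      refine ⟨X.mul_mem htX htX', fun u hu => ?_, fun v hv => ?_, fun m => ?_⟩
      · rw [happ, htU' u hu, hneg, htU u hu, neg_neg]
      · rw [happ, show ev' t (ev' t' v) - v = ev' t (ev' t' v - v) + (ev' t v - v) by rw [hsub]; abel,
          htU _ (htK' v hv)]
        exact U.add_mem (U.neg_mem (htK' v hv)) (htK v hv)
      · rw [happ, show ev' t (ev' t' m) - m =
          (ev' t (ev' t' m + m) - (ev' t' m + m)) + (ev' t' m + m) - (ev' t m + m) by rw [hadd]; abel]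
        exact K.sub_mem (K.add_mem (hUK (htK _ (htM' m))) (htM' m)) (htM m)
    set w := t * t' with hwd
    set n := (p + 1) / 2 with hn
    have hodd : 2 * n = p + 1 := by
      have := (Fact.out : p.Prime).odd_of_ne_two (by omega)
      obtain ⟨j, hj⟩ := this
      omega
    refine ⟨(w ^ n)⁻¹, W.inv_mem (W.pow_mem hw n), ?_⟩
    have e1 : t * w * t⁻¹ = w⁻¹ := by
      rw [hwd, _root_.mul_inv_rev, ← eq_inv_of_mul_eq_one_left ht2, ← eq_inv_of_mul_eq_one_left ht2', ← mul_assoc t t,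
        ht2, one_mul]
    have e2 : t * w ^ n * t⁻¹ = (w ^ n)⁻¹ := by rw [← conj_pow, e1, inv_pow]
    rw [inv_inv, mul_assoc, show t * w ^ n = (w ^ n)⁻¹ * t by rw [← e2, inv_mul_cancel_right], ← mul_assoc,
      ← _root_.mul_inv_rev, ← pow_add, ← two_mul, hodd, pow_succ, hexp w hw, one_mul, hwd, _root_.mul_inv_rev,
      ← eq_inv_of_mul_eq_one_left ht2, ← eq_inv_of_mul_eq_one_left ht2', mul_assoc, ht2, mul_one]
  obtain ⟨t, ht, hfix⟩ : ∃ t ∈ 𝒯, ∀ a ∈ A, a * t * a⁻¹ = t := by
    refine Coprime.exists_fixed_point (K := W) (X := (LinearMap.GeneralLinearGroup (ZMod p) M)) hWA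
      (hcop.coprime_dvd_right (Subgroup.card_dvd_of_le hWX)) (Or.inl hsolv) ⟨t0, ht0mem⟩ ?_ htrans ?_
    · exact fun a ha t ht => hconjT a (hAX ha) (hpresA a ha) (hpresA a⁻¹ (A.inv_mem ha)) t ht
    · exact fun g hg t ht => hconjT g (Subgroup.le_normalizer (hWX hg)) (hpresW g hg) (hpresW g⁻¹ (W.inv_mem hg)) t ht
  set Y := X ⊓ Subgroup.centralizer ({t} : Set (LinearMap.GeneralLinearGroup (ZMod p) M)) with hYd
  have hAY : A ≤ Subgroup.normalizer (Y : Set (LinearMap.GeneralLinearGroup (ZMod p) M)) := Subgroup.le_normalizer_iff.mpr fun a ha g hg => by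
    refine ⟨(Subgroup.mem_normalizer_iff.mp (hAX ha) g).mp hg.1, ?_⟩
    have h1 : t * g = g * t := Subgroup.mem_centralizer_singleton_iff.mp hg.2 |>.symm
    refine Subgroup.mem_centralizer_singleton_iff.mpr ?_
    conv_lhs => rw [← hfix a ha]
    conv_rhs => rw [← hfix a ha]
    calc a * g * a⁻¹ * (a * t * a⁻¹) = a * (g * t) * a⁻¹ := by simp [mul_assoc]
      _ = a * (t * g) * a⁻¹ := by rw [h1]
      _ = a * t * a⁻¹ * (a * g * a⁻¹) := by simp [mul_assoc]
  obtain ⟨k, hk, hkt⟩ := htrans t0 ht0mem t ht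
  have hkA : conjE k A0 = A0 := by
    refine LinearMap.ext fun m => ?_
    rw [conjE_apply]
    have h1 := (W.inv_mem hk).2.2.2 m
    rw [hKd, LinearMap.mem_ker, map_sub, sub_eq_zero] at h1
    show ev' k (A0 (ev' k⁻¹ m)) = A0 m
    rw [h1]
    exact hk.2.1 _ ⟨m, rfl⟩
  have hrtY : ∀ {R : Module.End (ZMod p) M}, Rt X R → Commute (t : Module.End (ZMod p) M) R → Rt Y R := by
    intro R hR hc
    refine ⟨hR.1, fun s => ?_⟩
    obtain ⟨g, hg, e⟩ := hR.2 s
    refine ⟨g, ⟨hg, ?_⟩, e⟩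
    refine Subgroup.mem_centralizer_singleton_iff.mpr ?_
    refine Units.ext ?_
    rw [Units.val_mul, Units.val_mul, e]
    exact ((Commute.one_right _).add_right (hc.smul_right s)).eq.symm
  have htk : ∀ R : Module.End (ZMod p) M, Commute (t0 : Module.End (ZMod p) M) R →
      Commute (t : Module.End (ZMod p) M) (conjE k R) := by
    intro R hR
    have e : (t : Module.End (ZMod p) M) = conjE k (t0 : Module.End (ZMod p) M) := by
      rw [← hkt, Units.val_mul, Units.val_mul]; rfl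
    rw [e, Commute, SemiconjBy, conjE_mul, conjE_mul, hR.eq]
  have hcA : Commute (t0 : Module.End (ZMod p) M) A0 := by
    rw [ht0v]
    exact (Commute.one_left _).sub_left (Commute.add_left (c.commA 1).symm (c.commA 1).symm)
  have hcB : Commute (t0 : Module.End (ZMod p) M) B := by
    rw [ht0v]
    exact (Commute.one_left _).sub_left (Commute.add_left (c.commB 1).symm (c.commB 1).symm)
  have hbad : Bad Y := by
    have h := hopp.conj (hWX hk)
    rw [hkA] at h
    exact ⟨A0, conjE k B, hrtY hA0.rt (hkA ▸ htk A0 hcA), hrtY h.2.1.rt (htk B hcB), h.2.2⟩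
  rcases (lt_or_eq_of_le (inf_le_left : Y ≤ X)) with hlt | heq
  · exact (ih Y hlt hAY hbad).of_injective (f := Subgroup.inclusion (inf_le_inf_right _ inf_le_left))
      (Subgroup.inclusion_injective _)
  · have hcent : X ⊔ A ≤ Subgroup.centralizer ({t} : Set (LinearMap.GeneralLinearGroup (ZMod p) M)) := sup_le (fun x hx => (heq.ge hx).2) fun a ha => by
      rw [Subgroup.mem_centralizer_singleton_iff]
      exact mul_inv_eq_iff_eq_mul.mp (hfix a ha)
    set E := LinearMap.ker ((t : Module.End (ZMod p) M) + 1) with hE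
    have hEinv : ∀ g ∈ X ⊔ A, ∀ w ∈ E, (g : Module.End (ZMod p) M) w ∈ E := by
      intro g hg w hw
      have hgt : g * t = t * g := Subgroup.mem_centralizer_singleton_iff.mp (hcent hg)
      rw [hE, LinearMap.mem_ker, LinearMap.add_apply, Module.End.one_apply] at hw ⊢
      show ev' t (ev' g w) + ev' g w = 0
      rw [← happ, ← hgt, happ, ← hadd]
      show ev' g (ev' t w + w) = 0
      rw [show ev' t w + w = 0 from hw]
      exact map_zero _
    have htop : E = ⊤ := by
      refine (hirr E hEinv).resolve_left fun he => hA0.2.1 (LinearMap.ext fun m => ?_)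
      have : A0 m ∈ E := by
        rw [hE, LinearMap.mem_ker, LinearMap.add_apply, Module.End.one_apply]
        show ev' t (A0 m) + A0 m = 0
        rw [ht.2.2.1 _ ⟨m, rfl⟩, neg_add_cancel]
      rw [he] at this
      exact (Submodule.mem_bot _).mp this
    have hKU : K ≤ U := by
      intro v hv
      have h1 := ht.2.2.2.1 v hv
      have h2 : ev' t v = -v := eq_neg_of_add_eq_zero_left (htop.ge (Submodule.mem_top (x := v)))
      rw [h2, show -v - v = (-2 : ZMod p) • v by module] at h1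
      exact (Submodule.smul_mem_iff _ (neg_ne_zero.mpr (two_ne hp))).mp h1
    refine base hp hAX hcop hsolv hA0 (fun a ha u hu => (hpresA a ha).1 u hu) ?_
    exact exists_dual hp hG hA0 hKU

end Cfsg.Agent.H42.Eqv
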