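import Cfsg.Agent.H42.Eqv.Central
import Cfsg.Agent.H88.QClasses

/-!
Components of the graph of opposites under the acting group.
-/

set_option autoImplicit false
set_option linter.unusedSectionVars false

namespace Cfsg.Agent.H42.Eqv

open Cfsg.Agent.H88 Thompson
open scoped commutatorElement

universe u v

section general

variable {k : Type v} [Field k] {M : Type u} [AddCommGroup M] [Module k M] [FiniteDimensional k M]
  {X : Subgroup (LinearMap.GeneralLinearGroup k M)}

theorem grp_le (A : Module.End k M) : grp X A ≤ X :=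
  (Subgroup.closure_le X).2 fun g hg => hg.1.rt.mem 1 (by simp)

theorem grp_le_minGroup (A : Module.End k M) : grp X A ≤ minGroup X :=
  Subgroup.closure_mono fun _ hg => hg.1

theorem grp_eq_of_linked {A B : Module.End k M} (h : Linked X A B) : grp X A = grp X B := by
  refine le_antisymm (Subgroup.closure_mono fun g hg => ⟨hg.1, h.symm.trans hg.2⟩)
    (Subgroup.closure_mono fun g hg => ⟨hg.1, h.trans hg.2⟩)

theorem map_grp_norm {g : LinearMap.GeneralLinearGroup k M}
    (hg : g ∈ Subgroup.normalizer (X : Set (LinearMap.GeneralLinearGroup k M))) (A : Module.End k M) :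
    (grp X A).map (MulAut.conj g).toMonoidHom = grp X (conjE g A) := by
  have key : ∀ (g : LinearMap.GeneralLinearGroup k M),
      g ∈ Subgroup.normalizer (X : Set (LinearMap.GeneralLinearGroup k M)) → ∀ (A : Module.End k M),
      (grp X A).map (MulAut.conj g).toMonoidHom ≤ grp X (conjE g A) := by
    intro g hg A
    rw [grp, MonoidHom.map_closure, Subgroup.closure_le]
    rintro _ ⟨h, ⟨h1, h2⟩, rfl⟩
    refine Subgroup.subset_closure ?_
    show IsMin X (((g * h * g⁻¹ : LinearMap.GeneralLinearGroup k M) : Module.End k M) - 1) ∧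
      Linked X (conjE g A) (((g * h * g⁻¹ : LinearMap.GeneralLinearGroup k M) : Module.End k M) - 1)
    rw [conjE_sub_one]
    exact ⟨isMin_conj_norm hg h1, linked_conj_norm hg h2⟩
  refine le_antisymm (key g hg A) ?_
  have h := key g⁻¹ (Subgroup.inv_mem _ hg) (conjE g A)
  rw [conjE_conjE, inv_mul_cancel, conjE_one] at h
  intro x hx
  exact ⟨g⁻¹ * x * g, h ⟨x, hx, by simp⟩, by simp [mul_assoc]⟩

/-- The root groups of a component are conjugate in its group. -/
theorem exists_conj_root (h2 : (2 : k) ≠ 0) (h3 : Nat.card k ≠ 3) (hG : NoUnip X) {A : Module.End k M}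
    (hA : IsMin X A) : ∀ C, Linked X A C → ∀ hC : IsMin X C, ∃ g ∈ grp X A,
      rootGroup X C hC.sq = (rootGroup X A hA.sq).map (MulAut.conj g).toMonoidHom := by
  intro C hl
  induction hl with
  | refl =>
    intro _
    exact ⟨1, (grp X A).one_mem, by rw [Coprime.map_conj_one]⟩
  | @tail C D hC hCD ih =>
    intro hD
    obtain ⟨g, hg, e⟩ := ih hCD.1
    obtain ⟨b, hb, -, eb⟩ := (special_pair h2 h3 hCD.1 hCD.2.1 fun X' hX' hX0 Y hY hY0 =>
      not_nilpotent_all h2 h3 hCD.1 hCD.2.1 (self_mem_rootSpace hCD.1.rt) (self_mem_rootSpace hCD.2.1.rt)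
        hCD.2.2 hX' hX0 hY hY0).1.cond_left (oneAdd C hCD.1.sq)
      (oneAdd_mem_rootGroup (self_mem_rootSpace hCD.1.rt))
      (fun e => hCD.1.2.1 (by simpa using congrArg Units.val e))
    refine ⟨oneAdd C hCD.1.sq * b⁻¹ * g, (grp X A).mul_mem ((grp X A).mul_mem
      (rootGroup_le_grp h2 h3 hG hA hC (oneAdd_mem_rootGroup (self_mem_rootSpace hCD.1.rt)))
      ((grp X A).inv_mem (rootGroup_le_grp h2 h3 hG hA (hC.tail hCD) hb))) hg, ?_⟩
    rw [← Coprime.map_conj_map_conj, ← e, ← Coprime.map_conj_map_conj]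
    show _ = Cfsg.conjBy (Cfsg.conjBy (rootGroup X C hCD.1.sq) b⁻¹) (oneAdd C hCD.1.sq)
    rw [eb]
    show _ = (((rootGroup X D hCD.2.1.sq).map (MulAut.conj (oneAdd C hCD.1.sq)⁻¹).toMonoidHom).map
      (MulAut.conj (oneAdd C hCD.1.sq)).toMonoidHom)
    rw [Coprime.map_conj_map_conj, mul_inv_cancel, Coprime.map_conj_one]

end general

variable {p : ℕ} [Fact p.Prime] {M : Type u} [AddCommGroup M] [Module (ZMod p) M] [Finite M]
  {X A : Subgroup (LinearMap.GeneralLinearGroup (ZMod p) M)}

/-- The irreducible case. -/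
theorem irreducible_step (hp : 5 ≤ p)
    (hAX : A ≤ Subgroup.normalizer (X : Set (LinearMap.GeneralLinearGroup (ZMod p) M)))
    (hcop : (Nat.card A).Coprime (Nat.card X)) (hsolv : Group.IsSolvable A) (hG : NoUnip X)
    (hirr : ∀ W : Submodule (ZMod p) M,
      (∀ g ∈ X ⊔ A, ∀ w ∈ W, (g : Module.End (ZMod p) M) w ∈ W) → W = ⊥ ∨ W = ⊤)
    (ih : ∀ Y B : Subgroup (LinearMap.GeneralLinearGroup (ZMod p) M), Y < X →
      B ≤ Subgroup.normalizer (Y : Set (LinearMap.GeneralLinearGroup (ZMod p) M)) →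
      (Nat.card B).Coprime (Nat.card Y) → Group.IsSolvable B → Bad Y →
      HasSection (Matrix.ProjectiveSpecialLinearGroup (Fin 2) (ZMod p))
        ↥(Y ⊓ Subgroup.centralizer (B : Set (LinearMap.GeneralLinearGroup (ZMod p) M))))
    {A0 : Module.End (ZMod p) M} (hA0 : IsMin X A0) :
    HasSection (Matrix.ProjectiveSpecialLinearGroup (Fin 2) (ZMod p))
      ↥(X ⊓ Subgroup.centralizer (A : Set (LinearMap.GeneralLinearGroup (ZMod p) M))) := by
  classical
  have h2 := two_ne (p := p) hp
  have h3 := card_ne_three (p := p) hp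
  set L := grp X A0 with hL
  have hLX : L ≤ X := grp_le A0
  obtain ⟨B0, hopp, hncomm⟩ := exists_not_commute h2 h3 hG hA0
  have hmA : oneAdd A0 hA0.sq ∈ L :=
    rootGroup_le_grp h2 h3 hG hA0 Relation.ReflTransGen.refl (oneAdd_mem_rootGroup (self_mem_rootSpace hA0.rt))
  have hlB : Linked X A0 B0 := Relation.ReflTransGen.single hopp
  have hmB : oneAdd B0 hopp.2.1.sq ∈ L :=
    rootGroup_le_grp h2 h3 hG hA0 hlB (oneAdd_mem_rootGroup (self_mem_rootSpace hopp.2.1.rt))
  have hlink : ∀ a ∈ A, a ∈ Subgroup.normalizer (L : Set (LinearMap.GeneralLinearGroup (ZMod p) M)) ↔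
      Linked X A0 (conjE a A0) := by
    intro a ha
    constructor
    · intro hn
      by_contra hnl
      have h := commutator_grp h2 h3 hG hnl
      rw [← map_grp_norm (hAX ha), ← hL, Coprime.map_conj_eq hn] at h
      have hc := Subgroup.mem_centralizer_iff.mp (Subgroup.commutator_eq_bot_iff_le_centralizer.mp h hmA) _ hmB
      have hc' := congrArg (Units.val : _ → Module.End (ZMod p) M) hc
      rw [Units.val_mul, Units.val_mul, oneAdd_val, oneAdd_val] at hc'
      exact hncomm (by linear_combination (norm := noncomm_ring) -hc')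
    · intro hl
      exact Coprime.mem_normalizer_of_map_conj (by rw [hL, map_grp_norm (hAX ha), ← grp_eq_of_linked hl])
  by_cases hall : A ≤ Subgroup.normalizer (L : Set (LinearMap.GeneralLinearGroup (ZMod p) M))
  · -- a fixed root group
    letI := Coprime.conjAction (LinearMap.GeneralLinearGroup (ZMod p) M)
    obtain ⟨E, ⟨C, hC, hlC, rfl⟩, hfix⟩ : ∃ E ∈ rootPart X A0, ∀ a ∈ A, a • E = E := by
      refine Coprime.exists_fixed_point (K := L) hall (hcop.coprime_dvd_right (Subgroup.card_dvd_of_le hLX))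
        (Or.inl hsolv) ⟨_, A0, hA0, Relation.ReflTransGen.refl, rfl⟩ ?_ ?_ ?_
      · rintro a ha _ ⟨C, hC, hlC, rfl⟩
        refine ⟨conjE a C, isMin_conj_norm (hAX ha) hC,
          ((hlink a ha).mp (hall ha)).trans (linked_conj_norm (hAX ha) hlC), ?_⟩
        exact map_rootGroup_norm (hAX ha) hC
      · rintro _ ⟨C, hC, hlC, rfl⟩ _ ⟨D, hD, hlD, rfl⟩
        obtain ⟨g, hg, eg⟩ := exists_conj_root h2 h3 hG hA0 C hlC hC
        obtain ⟨g', hg', eg'⟩ := exists_conj_root h2 h3 hG hA0 D hlD hD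
        refine ⟨g' * g⁻¹, L.mul_mem hg' (L.inv_mem hg), ?_⟩
        show (rootGroup X C hC.sq).map (MulAut.conj (g' * g⁻¹)).toMonoidHom = _
        rw [eg, Coprime.map_conj_map_conj, inv_mul_cancel_right, eg']
      · rintro g hg _ ⟨C, hC, hlC, rfl⟩
        refine ⟨conjE g C, hC.conj (hLX hg),
          hlC.trans (linked_conj_of_mem h2 h3 hG (grp_le_minGroup A0 hg) hC), ?_⟩
        exact map_rootGroup_norm (Subgroup.le_normalizer (hLX hg)) hC
    refine central hp hAX hcop hsolv hG hirr
      (fun Y hlt hY hb => ih Y A hlt hY (hcop.coprime_dvd_right (Subgroup.card_dvd_of_le hlt.le)) hsolv hb)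
      hC fun a ha => rk_conj_eq_of_mem (hA := hC.sq) ?_ hC.2.1 hC
    have e : rootGroup X (conjE a C) (isMin_conj_norm (hAX ha) hC).sq = rootGroup X C hC.sq :=
      (map_rootGroup_norm (hAX ha) hC).symm.trans (hfix a ha)
    rw [← rootSpace_eq_of_rootGroup_eq e]
    exact self_mem_rootSpace (rt_conj_norm (hAX ha) hC.rt)
  · -- several components
    set A1 := A ⊓ Subgroup.normalizer (L : Set (LinearMap.GeneralLinearGroup (ZMod p) M)) with hA1
    have hne : L < X := lt_of_le_of_ne hLX fun e => hall (e ▸ hAX)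
    have hcop1 : (Nat.card A1).Coprime (Nat.card L) :=
      (hcop.coprime_dvd_right (Subgroup.card_dvd_of_le hLX)).coprime_dvd_left (Subgroup.card_dvd_of_le inf_le_left)
    have hsolv1 : Group.IsSolvable A1 :=
      solvable_of_solvable_injective (Subgroup.inclusion_injective (inf_le_left : A1 ≤ A))
    have hrtL : ∀ {C : Module.End (ZMod p) M} (hC : IsMin X C), Linked X A0 C → Rt L C := by
      intro C hC hl
      refine ⟨hC.sq, fun s => ⟨oneAdd (s • C) (smul_sq C hC.sq s), ?_, rfl⟩⟩
      exact rootGroup_le_grp h2 h3 hG hA0 hl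
        (oneAdd_mem_rootGroup (Submodule.smul_mem _ s (self_mem_rootSpace hC.rt)))
    have hsect := ih L A1 hne inf_le_right hcop1 hsolv1
      ⟨A0, B0, hrtL hA0 Relation.ReflTransGen.refl, hrtL hopp.2.1 hlB, hopp.2.2⟩
    set C1 := L ⊓ Subgroup.centralizer (A1 : Set (LinearMap.GeneralLinearGroup (ZMod p) M)) with hC1
    let Q := ↥A ⧸ A1.subgroupOf A
    letI : Fintype Q := Fintype.ofFinite Q
    let ϕ : Q → (↥C1 →* LinearMap.GeneralLinearGroup (ZMod p) M) := fun q =>
      ((MulAut.conj ((q.out : ↥A) : LinearMap.GeneralLinearGroup (ZMod p) M)).toMonoidHom).comp C1.subtype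
    have hϕ : ∀ q x, ϕ q x = ((q.out : ↥A) : LinearMap.GeneralLinearGroup (ZMod p) M) * x *
        ((q.out : ↥A) : LinearMap.GeneralLinearGroup (ZMod p) M)⁻¹ := fun q x => rfl
    have hcomm : Pairwise fun q q' => ∀ x y, Commute (ϕ q x) (ϕ q' y) := by
      intro q q' hqq x y
      set a := ((q.out : ↥A) : LinearMap.GeneralLinearGroup (ZMod p) M)
      set b := ((q'.out : ↥A) : LinearMap.GeneralLinearGroup (ZMod p) M)
      have hab : a⁻¹ * b ∈ A := A.mul_mem (A.inv_mem q.out.2) q'.out.2
      have hnl : ¬ Linked X A0 (conjE (a⁻¹ * b) A0) := fun hl => hqq (by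
        rw [← QuotientGroup.out_eq' q, ← QuotientGroup.out_eq' q', QuotientGroup.eq]
        exact ⟨hab, (hlink _ hab).mpr hl⟩)
      have h := commutator_grp h2 h3 hG hnl
      rw [← map_grp_norm (hAX hab), ← hL] at h
      have hc : Commute (x : LinearMap.GeneralLinearGroup (ZMod p) M) (a⁻¹ * b * y * (a⁻¹ * b)⁻¹) :=
        (Subgroup.mem_centralizer_iff.mp (Subgroup.commutator_eq_bot_iff_le_centralizer.mp h x.2.1) _
          ⟨y, y.2.1, rfl⟩).symm
      have := hc.map (MulAut.conj a).toMonoidHom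
      simpa [hϕ, mul_assoc] using this
    let Φ : ↥C1 →* LinearMap.GeneralLinearGroup (ZMod p) M :=
      (MonoidHom.noncommPiCoprod ϕ hcomm).comp (Pi.monoidHom fun _ => MonoidHom.id _)
    have hpw : ∀ x, ((Finset.univ : Finset Q) : Set Q).Pairwise (Function.onFun Commute fun q => ϕ q x) :=
      fun x i _ j _ hij => hcomm hij x x
    have hΦ : ∀ x, Φ x = Finset.univ.noncommProd (fun q => ϕ q x) (hpw x) := fun x => rfl
    have hfac : ∀ q x, ϕ q x ∈ X := fun q x => by
      rw [hϕ]
      exact (Subgroup.mem_normalizer_iff.mp (hAX q.out.2) _).mp (hLX x.2.1)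
    have hmemX : ∀ x, Φ x ∈ X := fun x => by
      rw [hΦ]
      exact Subgroup.noncommProd_mem X _ fun q _ => hfac q x
    have hmemA : ∀ x, Φ x ∈ Subgroup.centralizer (A : Set (LinearMap.GeneralLinearGroup (ZMod p) M)) := by
      intro x
      rw [Subgroup.mem_centralizer_iff]
      intro b hb
      have hperm : ∀ q, b * ϕ q x * b⁻¹ = ϕ ((⟨b, hb⟩ : ↥A) • q) x := by
        intro q
        obtain ⟨h, hh⟩ := QuotientGroup.mk_out_eq_mul (A1.subgroupOf A) ((⟨b, hb⟩ : ↥A) * q.out)
        have e : ((⟨b, hb⟩ : ↥A) • q) = (((⟨b, hb⟩ : ↥A) * q.out : ↥A) : Q) := by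
          conv_lhs => rw [← QuotientGroup.out_eq' q]
          rfl
        rw [hϕ, hϕ, e, hh]
        have hx := Subgroup.mem_centralizer_iff.mp x.2.2 _ (show (((h : ↥A)) : LinearMap.GeneralLinearGroup (ZMod p) M) ∈ A1 from h.2)
        show b * (_ * _ * _) * b⁻¹ = (b * _ * ((h : ↥A) : LinearMap.GeneralLinearGroup (ZMod p) M)) * _ * (b * _ * ((h : ↥A) : LinearMap.GeneralLinearGroup (ZMod p) M))⁻¹
        calc b * (((q.out : ↥A) : LinearMap.GeneralLinearGroup (ZMod p) M) * x * ((q.out : ↥A) : LinearMap.GeneralLinearGroup (ZMod p) M)⁻¹) * b⁻¹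
            = b * ((q.out : ↥A) : LinearMap.GeneralLinearGroup (ZMod p) M) * ((((h : ↥A)) : LinearMap.GeneralLinearGroup (ZMod p) M) * x * (((h : ↥A)) : LinearMap.GeneralLinearGroup (ZMod p) M)⁻¹) * (b * ((q.out : ↥A) : LinearMap.GeneralLinearGroup (ZMod p) M))⁻¹ := by
              rw [hx]; simp [mul_assoc]
          _ = _ := by simp [mul_assoc]
      have e : MulAut.conj b (Φ x) = Φ x := by
        rw [hΦ, Finset.map_noncommProd]
        simp only [Finset.noncommProd]
        congr 1
        have hσ : Function.Bijective fun q : Q => (⟨b, hb⟩ : ↥A) • q := MulAction.bijective _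
        conv_rhs => rw [← Multiset.map_univ_val_equiv (Equiv.ofBijective _ hσ), Multiset.map_map]
        exact Multiset.map_congr rfl fun q _ => hperm q
      exact mul_inv_eq_iff_eq_mul.mp e
    have hker : Φ.ker ≤ Subgroup.center ↥C1 := by
      intro x hx
      rw [Subgroup.mem_center_iff]
      intro y
      let q0 : Q := ((1 : ↥A) : Q)
      have h1 : ϕ q0 x * (Finset.univ.erase q0).noncommProd (fun q => ϕ q x) ((hpw x).mono (Finset.coe_subset.mpr (Finset.erase_subset _ _))) = 1 := by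
        exact (Finset.mul_noncommProd_erase Finset.univ (Finset.mem_univ q0) (fun q => ϕ q x) (hpw x)).trans
          ((hΦ x).symm.trans hx)
      have h2' : Commute (ϕ q0 y) ((Finset.univ.erase q0).noncommProd (fun q => ϕ q x) ((hpw x).mono (Finset.coe_subset.mpr (Finset.erase_subset _ _)))) :=
        Finset.noncommProd_commute _ _ _ _ fun q hq => hcomm (Finset.ne_of_mem_erase hq).symm y x
      rw [eq_inv_of_mul_eq_one_right h1] at h2'
      have h3' : Commute (ϕ q0 y) (ϕ q0 x) := by simpa using h2'.inv_right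
      have h4 : ϕ q0 (y * x) = ϕ q0 (x * y) := by rw [map_mul, map_mul]; exact h3'.eq
      exact Subtype.ext ((MulAut.conj _).injective h4)
    refine hasSection_of_central_kernel (center_PSL_two hp) (Φ.codRestrict _ fun x => ⟨hmemX x, hmemA x⟩) ?_ hsect
    exact fun x hx => hker (congrArg Subtype.val hx)

end Cfsg.Agent.H42.Eqv
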