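import Cfsg.Agent.H42.Eqv.Norm

/-!
Two square zero endomorphisms `T`, `F` with `T F + F T = 1` and the special linear group they carry.
-/

set_option autoImplicit false
set_option linter.unusedSectionVars false

namespace Cfsg.Agent.H42.Eqv

open Cfsg.Agent.H88 Matrix

universe u v

section

variable {k : Type v} [Field k] {M : Type u} [AddCommGroup M] [Module k M]

/-- A dual pair. -/
structure Dual (T F : Module.End k M) : Prop where
  sqT : T * T = 0
  sqF : F * F = 0
  sum : T * F + F * T = 1

namespace Dual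

variable {T F : Module.End k M} (d : Dual T F)
include d

theorem symm : Dual F T := ⟨d.sqF, d.sqT, by rw [add_comm]; exact d.sum⟩

theorem TFT : T * F * T = T := by
  have h := congrArg (fun z => z * T) d.sum
  simp only [add_mul, one_mul, mul_assoc F T T, d.sqT, mul_zero, add_zero] at h
  exact h

theorem FTF : F * T * F = F := d.symm.TFT

theorem FT_eq : F * T = 1 - T * F := eq_sub_iff_add_eq'.mpr d.sum

theorem idem : T * F * (T * F) = T * F := by rw [← mul_assoc, d.TFT]

theorem conj (g : LinearMap.GeneralLinearGroup k M) : Dual (conjE g T) (conjE g F) := by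
  refine ⟨by rw [conjE_mul, d.sqT, conjE_zero], by rw [conjE_mul, d.sqF, conjE_zero], ?_⟩
  rw [conjE_mul, conjE_mul, ← conjE_add, d.sum]
  simp [conjE]

/-- Uniqueness of the partner with a given idempotent. -/
theorem eq_of_mul_eq {F' : Module.End k M} (d' : Dual T F') (h : T * F = T * F') : F = F' := by
  calc F = F * T * F := d.FTF.symm
    _ = F' * T * F := by rw [d.FT_eq, d'.FT_eq, h]
    _ = F' * (T * F') := by rw [mul_assoc, h]
    _ = F' := by rw [← mul_assoc, d'.FTF]

theorem ne_zero [Nontrivial M] : T ≠ 0 := by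
  rintro rfl
  have h := d.sum
  simp at h

end Dual

/-- The endomorphism with coordinates `m`. -/
def pairVal (T F : Module.End k M) (m : Matrix (Fin 2) (Fin 2) k) : Module.End k M :=
  m 0 0 • (T * F) + m 0 1 • T + m 1 0 • F + m 1 1 • (F * T)

theorem pairVal_mul {T F : Module.End k M} (d : Dual T F) (m n : Matrix (Fin 2) (Fin 2) k) :
    pairVal T F m * pairVal T F n = pairVal T F (m * n) := by
  have a1 : T * F * (T * F) = T * F := d.idem
  have a2 : T * F * T = T := d.TFT
  have a3 : T * F * F = 0 := by rw [mul_assoc, d.sqF, mul_zero]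
  have a4 : T * F * (F * T) = 0 := by rw [← mul_assoc, a3, zero_mul]
  have b1 : T * (T * F) = 0 := by rw [← mul_assoc, d.sqT, zero_mul]
  have b4 : T * (F * T) = T := by rw [← mul_assoc, a2]
  have c1 : F * (T * F) = F := by rw [← mul_assoc, d.FTF]
  have c4 : F * (F * T) = 0 := by rw [← mul_assoc, d.sqF, zero_mul]
  have e1 : F * T * (T * F) = 0 := by rw [mul_assoc, b1, mul_zero]
  have e2 : F * T * T = 0 := by rw [mul_assoc, d.sqT, mul_zero]
  have e3 : F * T * F = F := d.FTF
  have e4 : F * T * (F * T) = F * T := d.symm.idem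
  simp only [pairVal, add_mul, mul_add, smul_mul_smul_comm, a1, a2, a3, a4, b1, d.sqT, b4, c1, c4, d.sqF, e1,
    e2, e3, e4, smul_zero, add_zero, zero_add, Matrix.mul_apply, Fin.sum_univ_two, add_smul]
  abel

theorem pairVal_one {T F : Module.End k M} (d : Dual T F) : pairVal T F 1 = 1 := by
  simpa [pairVal] using d.sum

/-- The homomorphism from the special linear group. -/
noncomputable def pairHom {T F : Module.End k M} (d : Dual T F) :
    SpecialLinearGroup (Fin 2) k →* LinearMap.GeneralLinearGroup k M :=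
  MonoidHom.toHomUnits
    { toFun := fun γ => pairVal T F (γ : Matrix (Fin 2) (Fin 2) k)
      map_one' := pairVal_one d
      map_mul' := fun γ δ => by
        show pairVal T F ((γ : Matrix (Fin 2) (Fin 2) k) * (δ : Matrix (Fin 2) (Fin 2) k)) = _
        rw [pairVal_mul d] }

theorem pairHom_val {T F : Module.End k M} (d : Dual T F) (γ : SpecialLinearGroup (Fin 2) k) :
    ((pairHom d γ : LinearMap.GeneralLinearGroup k M) : Module.End k M) =
      pairVal T F (γ : Matrix (Fin 2) (Fin 2) k) := rfl

theorem pairHom_injective [Nontrivial M] {T F : Module.End k M} (d : Dual T F) :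
    Function.Injective (pairHom d) := by
  intro γ δ h
  have h' : pairVal T F (γ : Matrix (Fin 2) (Fin 2) k) = pairVal T F (δ : Matrix (Fin 2) (Fin 2) k) := by
    rw [← pairHom_val d, h, pairHom_val]
  set m := (γ : Matrix (Fin 2) (Fin 2) k) - (δ : Matrix (Fin 2) (Fin 2) k) with hm
  have h0 : pairVal T F m = 0 := by
    have : pairVal T F m = pairVal T F (γ : Matrix (Fin 2) (Fin 2) k) - pairVal T F (δ : Matrix (Fin 2) (Fin 2) k) := by
      simp only [pairVal, hm, Matrix.sub_apply, sub_smul]; abel
    rw [this, h', sub_self]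
  have hT := d.ne_zero
  have key : ∀ a b : Fin 2, m a b = 0 := by
    intro a b
    let E : Fin 2 → Fin 2 → Matrix (Fin 2) (Fin 2) k := fun i j => Matrix.single i j 1
    have h1 : pairVal T F (E 0 a * m * E b 1) = 0 := by
      rw [← pairVal_mul d, ← pairVal_mul d, h0, mul_zero, zero_mul]
    have h2 : E 0 a * m * E b 1 = m a b • E 0 1 := by
      ext i j; fin_cases i <;> fin_cases j <;> fin_cases a <;> fin_cases b <;>
        simp [E, Matrix.mul_apply, Matrix.single, Fin.sum_univ_two]
    rw [h2] at h1
    have h3 : pairVal T F (m a b • E 0 1) = m a b • T := by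
      simp [pairVal, E, Matrix.single]
    rw [h3, smul_eq_zero] at h1
    exact h1.resolve_right hT
  refine Subtype.ext (sub_eq_zero.mp ?_)
  rw [← hm]
  exact Matrix.ext key

theorem pairHom_le {X : Subgroup (LinearMap.GeneralLinearGroup k M)} {T F : Module.End k M} (d : Dual T F)
    (hT : Rt X T) (hF : Rt X F) : (pairHom d).range ≤ X := by
  rw [MonoidHom.range_eq_map, Subgroup.map_le_iff_le_comap]
  refine (eq_top_of_uu_vv (fun x => ?_) (fun x => ?_)).ge
  · refine hT.mem x ?_
    rw [pairHom_val, uu_coe, ← d.sum]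
    simp [pairVal]
    abel
  · refine hF.mem x ?_
    rw [pairHom_val, vv_coe, ← d.sum]
    simp [pairVal]
    abel

end

/-- A centralised dual pair gives the section. -/
theorem hasSection_of_dual {p : ℕ} [Fact p.Prime] {M : Type u} [AddCommGroup M] [Module (ZMod p) M]
    [Nontrivial M] {X A : Subgroup (LinearMap.GeneralLinearGroup (ZMod p) M)} {T F : Module.End (ZMod p) M}
    (d : Dual T F) (hT : Rt X T) (hF : Rt X F) (hAT : ∀ a ∈ A, conjE a T = T)
    (hAF : ∀ a ∈ A, conjE a F = F) :
    Thompson.HasSection (Matrix.ProjectiveSpecialLinearGroup (Fin 2) (ZMod p))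
      ↥(X ⊓ Subgroup.centralizer (A : Set (LinearMap.GeneralLinearGroup (ZMod p) M))) := by
  have hle : ∀ γ, pairHom d γ ∈ X ⊓ Subgroup.centralizer (A : Set (LinearMap.GeneralLinearGroup (ZMod p) M)) := by
    intro γ
    refine ⟨pairHom_le d hT hF ⟨γ, rfl⟩, Subgroup.mem_centralizer_iff.mpr fun a ha => Units.ext ?_⟩
    have hc : ∀ Z : Module.End (ZMod p) M, conjE a Z = Z → Commute (a : Module.End (ZMod p) M) Z := by
      intro Z hZ
      have h := congrArg (fun W => W * (a : Module.End (ZMod p) M)) hZ
      simpa [Commute, SemiconjBy, conjE, mul_assoc] using h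
    rw [Units.val_mul, Units.val_mul, pairHom_val]
    have c1 := hc T (hAT a ha)
    have c2 := hc F (hAF a ha)
    exact (((((c1.mul_right c2).smul_right _).add_right (c1.smul_right _)).add_right (c2.smul_right _)).add_right
      ((c2.mul_right c1).smul_right _)).eq
  let θ : SpecialLinearGroup (Fin 2) (ZMod p) →*
      ↥(X ⊓ Subgroup.centralizer (A : Set (LinearMap.GeneralLinearGroup (ZMod p) M))) := (pairHom d).codRestrict _ hle
  have hθ : Function.Injective θ := fun γ δ h => pairHom_injective d (congrArg Subtype.val h)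
  refine Thompson.HasSection.of_injective hθ
    ⟨⊤, (QuotientGroup.mk' _).comp (⊤ : Subgroup (SpecialLinearGroup (Fin 2) (ZMod p))).subtype, ?_⟩
  intro y
  obtain ⟨γ, rfl⟩ := QuotientGroup.mk'_surjective _ y
  exact ⟨⟨γ, Subgroup.mem_top γ⟩, rfl⟩

end Cfsg.Agent.H42.Eqv
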