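import Cfsg.Agent.H42.Eqv.Components

/-!
The equivariant quadratic-action theorem: if `X` contains a non-unipotent quadratic pair and `A`
acts coprimely, then the centraliser of `A` in `X` has a section `PSL₂(p)`.
-/

set_option autoImplicit false
set_option linter.unusedSectionVars false

namespace Cfsg.Agent.H42.Eqv

open Cfsg.Agent.H88 Thompson

universe u v

theorem exists_isMin {k : Type v} [Field k] {M : Type u} [AddCommGroup M] [Module k M]
    {X : Subgroup (LinearMap.GeneralLinearGroup k M)} {R : Module.End k M} (hR : Rt X R) (h0 : R ≠ 0) :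
    ∃ A, IsMin X A := by
  classical
  have h : ∃ n, ∃ A, Rt X A ∧ A ≠ 0 ∧ rk A = n := ⟨_, R, hR, h0, rfl⟩
  obtain ⟨A, hA, hA0, e⟩ := Nat.find_spec h
  exact ⟨A, hA, hA0, fun A' hA' hA'0 => e.le.trans (Nat.find_min' h ⟨A', hA', hA'0, rfl⟩)⟩

variable {p : ℕ} [Fact p.Prime]

theorem kl_aux (hp : 5 ≤ p) : ∀ (n : ℕ) {M : Type u} [AddCommGroup M] [Module (ZMod p) M] [Finite M]
    (X A : Subgroup (LinearMap.GeneralLinearGroup (ZMod p) M)),
    A ≤ Subgroup.normalizer (X : Set (LinearMap.GeneralLinearGroup (ZMod p) M)) →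
    (Nat.card A).Coprime (Nat.card X) → Group.IsSolvable A → Bad X →
    Nat.card X + Module.finrank (ZMod p) M ≤ n →
    HasSection (Matrix.ProjectiveSpecialLinearGroup (Fin 2) (ZMod p))
      ↥(X ⊓ Subgroup.centralizer (A : Set (LinearMap.GeneralLinearGroup (ZMod p) M))) := by
  intro n
  induction n using Nat.strong_induction_on with
  | _ n ih =>
  intro M _ _ _ X A hAX hcop hsolv hbad hn
  obtain ⟨R, S, hR, hS, hRS⟩ := hbad
  by_cases hirr : ∀ W : Submodule (ZMod p) M,
      (∀ g ∈ X ⊔ A, ∀ w ∈ W, (g : Module.End (ZMod p) M) w ∈ W) → W = ⊥ ∨ W = ⊤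
  · have hR0 : R ≠ 0 := by rintro rfl; simp at hRS
    obtain ⟨A0, hA0⟩ := exists_isMin hR hR0
    have hnt : ∃ m : M, m ≠ 0 := by
      by_contra h
      push Not at h
      exact hR0 (LinearMap.ext fun m => by rw [h m]; simp)
    have hsemi : Semi X := (semi_of_irreducible ⟨hnt, hirr⟩).normal le_sup_left fun h hh g hg =>
      (Subgroup.mem_normalizer_iff.mp (sup_le Subgroup.le_normalizer hAX hh) g).mp hg
    refine irreducible_step hp hAX hcop hsolv hsemi.noUnip hirr (fun Y B hlt hBY hc hs hb => ?_) hA0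
    refine ih (Nat.card Y + Module.finrank (ZMod p) M) ?_ Y B hBY hc hs hb le_rfl
    have : Nat.card Y < Nat.card X := by
      refine lt_of_le_of_ne (Nat.le_of_dvd Nat.card_pos (Subgroup.card_dvd_of_le hlt.le)) fun e => hlt.ne ?_
      exact Subgroup.eq_of_le_of_card_ge hlt.le e.ge
    omega
  · push Not at hirr
    obtain ⟨W, hW, hbot, htop⟩ := hirr
    set H := X ⊔ A with hH
    have hXH : X ≤ H := le_sup_left
    have hAH : A ≤ H := le_sup_right
    have hHW : ∀ g ∈ H, (g : Module.End (ZMod p) M) ∈ stabAlg W := hW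
    have step : ∀ {M' : Type u} [AddCommGroup M'] [Module (ZMod p) M'] [Finite M']
        (φ : stabAlg W →ₐ[ZMod p] Module.End (ZMod p) M'),
        Module.finrank (ZMod p) M' < Module.finrank (ZMod p) M →
        Bad ((X.subgroupOf H).map (liftGL hHW φ)) →
        HasSection (Matrix.ProjectiveSpecialLinearGroup (Fin 2) (ZMod p))
          ↥(X ⊓ Subgroup.centralizer (A : Set (LinearMap.GeneralLinearGroup (ZMod p) M))) := by
      intro M' _ _ _ φ hlt hb
      set f := liftGL hHW φ
      have hAXH : A.subgroupOf H ≤ Subgroup.normalizer ((X.subgroupOf H : Subgroup H) : Set H) :=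
        Subgroup.le_normalizer_iff.mpr fun a ha x hx => by
          show ((a * x * a⁻¹ : H) : LinearMap.GeneralLinearGroup (ZMod p) M) ∈ X
          exact (Subgroup.mem_normalizer_iff.mp (hAX ha) _).mp hx
      have hcA : Nat.card (A.subgroupOf H) = Nat.card A := Nat.card_congr (Subgroup.subgroupOfEquivOfLe hAH).toEquiv
      have hcX : Nat.card (X.subgroupOf H) = Nat.card X := Nat.card_congr (Subgroup.subgroupOfEquivOfLe hXH).toEquiv
      have hsA : Group.IsSolvable (A.subgroupOf H) :=
        solvable_of_solvable_injective (f := (Subgroup.subgroupOfEquivOfLe hAH).toMonoidHom)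
          (Subgroup.subgroupOfEquivOfLe hAH).injective
      have hdA : Nat.card ((A.subgroupOf H).map f) ∣ Nat.card A := hcA ▸ Subgroup.card_map_dvd _ f
      have hdX : Nat.card ((X.subgroupOf H).map f) ∣ Nat.card X := hcX ▸ Subgroup.card_map_dvd _ f
      have hsec := ih (Nat.card ((X.subgroupOf H).map f) + Module.finrank (ZMod p) M') (by
          have := Nat.le_of_dvd Nat.card_pos hdX
          omega)
        ((X.subgroupOf H).map f) ((A.subgroupOf H).map f)
        (Subgroup.le_normalizer_iff.mpr fun a ha x hx => by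
          obtain ⟨a, ha, rfl⟩ := ha
          obtain ⟨x, hx, rfl⟩ := hx
          exact ⟨a * x * a⁻¹, (Subgroup.mem_normalizer_iff.mp (hAXH ha) x).mp hx, by simp⟩)
        (Nat.Coprime.coprime_dvd_left hdA (hcop.coprime_dvd_right hdX))
        (solvable_of_surjective (f := f.subgroupMap (A.subgroupOf H)) (f.subgroupMap_surjective _)) hb le_rfl
      have h := hasSection_lift_fixed f (X.subgroupOf H) (A.subgroupOf H) hAXH (by rw [hcA, hcX]; exact hcop) hsA hsec
      let g : ↥(X.subgroupOf H ⊓ Subgroup.centralizer ((A.subgroupOf H : Subgroup H) : Set H)) →*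
          ↥(X ⊓ Subgroup.centralizer (A : Set (LinearMap.GeneralLinearGroup (ZMod p) M))) :=
        (H.subtype.comp (Subgroup.subtype _)).codRestrict _ fun x =>
          ⟨x.2.1, Subgroup.mem_centralizer_iff.mpr fun a ha =>
            congrArg Subtype.val (Subgroup.mem_centralizer_iff.mp x.2.2 ⟨a, hAH ha⟩ ha)⟩
      exact h.of_injective (f := g) fun a b e => by
        have e' := congrArg Subtype.val e
        exact Subtype.ext (Subtype.ext e')
    rcases bad_res_or_quot hHW hXH ⟨R, S, hR, hS, hRS⟩ with h | h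
    · exact step (resAlg W) (Submodule.finrank_lt htop) h
    · haveI : Finite (M ⧸ W) := Finite.of_surjective W.mkQ W.mkQ_surjective
      exact step (quotAlg W) (by
        have h1 := W.finrank_quotient_add_finrank
        have h2 : 0 < Module.finrank (ZMod p) W :=
          Nat.pos_of_ne_zero fun e => hbot (Submodule.finrank_eq_zero.mp e)
        omega) h

/-- The equivariant quadratic-action theorem. -/
theorem kl (hp : 5 ≤ p) {M : Type u} [AddCommGroup M] [Module (ZMod p) M] [Finite M]
    {X A : Subgroup (LinearMap.GeneralLinearGroup (ZMod p) M)}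
    (hAX : A ≤ Subgroup.normalizer (X : Set (LinearMap.GeneralLinearGroup (ZMod p) M)))
    (hcop : (Nat.card A).Coprime (Nat.card X)) (hsolv : Group.IsSolvable A) (hbad : Bad X) :
    HasSection (Matrix.ProjectiveSpecialLinearGroup (Fin 2) (ZMod p))
      ↥(X ⊓ Subgroup.centralizer (A : Set (LinearMap.GeneralLinearGroup (ZMod p) M))) :=
  kl_aux hp _ X A hAX hcop hsolv hbad le_rfl

end Cfsg.Agent.H42.Eqv
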