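import Cfsg.Agent.H42.Eqv.Reduce
import Cfsg.Agent.H88.QRootSet
import Cfsg.Agent.H88.QQuasisimple

/-!
Quadratic elements under conjugation by elements normalising the group, and quadratic elements
over a prime field.
-/

set_option autoImplicit false
set_option linter.unusedSectionVars false

namespace Cfsg.Agent.H42.Eqv

open Cfsg.Agent.H88

universe u v

section general

variable {k : Type v} [Field k] {M : Type u} [AddCommGroup M] [Module k M]
  {X : Subgroup (LinearMap.GeneralLinearGroup k M)} {g : LinearMap.GeneralLinearGroup k M}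

theorem conjE_sub_one (g h : LinearMap.GeneralLinearGroup k M) :
    ((g * h * g⁻¹ : LinearMap.GeneralLinearGroup k M) : Module.End k M) - 1 =
      conjE g ((h : Module.End k M) - 1) := by
  simp [conjE, mul_sub, sub_mul]

theorem rt_conj_norm (hg : g ∈ Subgroup.normalizer (X : Set (LinearMap.GeneralLinearGroup k M)))
    {A : Module.End k M} (h : Rt X A) : Rt X (conjE g A) := by
  refine ⟨by rw [conjE_mul, h.1, conjE_zero], fun c => ?_⟩
  obtain ⟨a, ha, e⟩ := h.2 c
  refine ⟨g * a * g⁻¹, (Subgroup.mem_normalizer_iff.mp hg a).mp ha, ?_⟩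
  rw [Units.val_mul, Units.val_mul, e, conjE_one_add, conjE_smul]

theorem isMin_conj_norm [FiniteDimensional k M]
    (hg : g ∈ Subgroup.normalizer (X : Set (LinearMap.GeneralLinearGroup k M)))
    {A : Module.End k M} (h : IsMin X A) : IsMin X (conjE g A) :=
  h.of_rk_le (rt_conj_norm hg h.1) (fun e => h.2.1 ((conjE_eq_zero_iff g A).mp e)) (rk_conjE g A).le

theorem conjE_pow (g : LinearMap.GeneralLinearGroup k M) (T : Module.End k M) (i : ℕ) :
    conjE g T ^ i = conjE g (T ^ i) := by
  induction i with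
  | zero => simp [conjE]
  | succ i ih => rw [pow_succ, ih, conjE_mul, pow_succ]

theorem opp_conj_norm [FiniteDimensional k M]
    (hg : g ∈ Subgroup.normalizer (X : Set (LinearMap.GeneralLinearGroup k M)))
    {A B : Module.End k M} (h : Opp X A B) : Opp X (conjE g A) (conjE g B) := by
  refine ⟨isMin_conj_norm hg h.1, isMin_conj_norm hg h.2.1, ?_⟩
  rintro ⟨n, hn⟩
  refine h.2.2 ⟨n, ?_⟩
  rw [conjE_mul, conjE_mul, ← conjE_add, conjE_pow, conjE_eq_zero_iff] at hn
  exact hn

theorem linked_conj_norm [FiniteDimensional k M]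
    (hg : g ∈ Subgroup.normalizer (X : Set (LinearMap.GeneralLinearGroup k M)))
    {A B : Module.End k M} (h : Linked X A B) : Linked X (conjE g A) (conjE g B) := by
  induction h with
  | refl => exact Relation.ReflTransGen.refl
  | tail _ h ih => exact Relation.ReflTransGen.tail ih (opp_conj_norm hg h)

theorem rootSpace_conj_norm (hg : g ∈ Subgroup.normalizer (X : Set (LinearMap.GeneralLinearGroup k M)))
    {A T : Module.End k M} {hA : A * A = 0} (hT : T ∈ rootSpace X A hA)
    {hA' : conjE g A * conjE g A = 0} : conjE g T ∈ rootSpace X (conjE g A) hA' := by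
  refine ⟨rt_conj_norm hg hT.1, ?_, ?_⟩
  · rw [ker_conjE, ker_conjE]; exact Submodule.map_mono hT.2.1
  · rw [range_conjE, range_conjE]; exact Submodule.map_mono hT.2.2

theorem map_rootGroup_norm [FiniteDimensional k M]
    (hg : g ∈ Subgroup.normalizer (X : Set (LinearMap.GeneralLinearGroup k M))) {A : Module.End k M}
    (hA : IsMin X A) :
    (rootGroup X A hA.sq).map (MulAut.conj g).toMonoidHom =
      rootGroup X (conjE g A) (isMin_conj_norm hg hA).sq := by
  ext h
  constructor
  · rintro ⟨a, ha, rfl⟩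
    rw [mem_rootGroup]
    show ((g * a * g⁻¹ : LinearMap.GeneralLinearGroup k M) : Module.End k M) - 1 ∈ _
    rw [conjE_sub_one]
    exact rootSpace_conj_norm hg (mem_rootGroup.1 ha)
  · intro hh
    refine ⟨g⁻¹ * h * g, mem_rootGroup.2 ?_, by simp [mul_assoc]⟩
    have h1 := rootSpace_conj_norm (hA' := by rw [conjE_mul, (isMin_conj_norm hg hA).sq, conjE_zero])
      (Subgroup.inv_mem _ hg) (mem_rootGroup.1 hh)
    have e := conjE_sub_one g⁻¹ h
    rw [inv_inv] at e
    have e' : conjE g⁻¹ (conjE g A) = A := by rw [conjE_conjE, inv_mul_cancel, conjE_one]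
    rw [e]
    simp only [mem_rootSpace, e'] at h1 ⊢
    exact h1

theorem rk_conj_eq_of_mem {A : Module.End k M} {hA : A * A = 0} {g : LinearMap.GeneralLinearGroup k M}
    (hg : conjE g A ∈ rootSpace X A hA) (hne : A ≠ 0) (hmin : IsMin X A) [FiniteDimensional k M] :
    (LinearMap.range A).map (g : Module.End k M) = LinearMap.range A ∧
      (LinearMap.ker A).map (g : Module.End k M) = LinearMap.ker A := by
  have hn : conjE g A ≠ 0 := fun e => hne ((conjE_eq_zero_iff g A).mp e)
  exact ⟨(range_conjE g A).symm.trans (hmin.range_eq hg hn), (ker_conjE g A).symm.trans (hmin.ker_eq hg hn)⟩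

end general

section prime

variable {p : ℕ} [Fact p.Prime] {M : Type u} [AddCommGroup M] [Module (ZMod p) M]
  {X : Subgroup (LinearMap.GeneralLinearGroup (ZMod p) M)}

/-- Over the prime field every square-zero deviation of a member gives a whole family. -/
theorem rt_of_mem {T : Module.End (ZMod p) M} (hT : T * T = 0) {g : LinearMap.GeneralLinearGroup (ZMod p) M}
    (hg : g ∈ X) (e : (g : Module.End (ZMod p) M) = 1 + T) : Rt X T := by
  refine ⟨hT, fun c => ⟨g ^ c.val, pow_mem hg _, ?_⟩⟩
  have key : ∀ n : ℕ, ((g ^ n : LinearMap.GeneralLinearGroup (ZMod p) M) : Module.End (ZMod p) M) =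
      1 + (n : ZMod p) • T := by
    intro n
    induction n with
    | zero => simp
    | succ n ih =>
      rw [pow_succ, Units.val_mul, ih, e, add_mul, one_mul, mul_add, mul_one, smul_mul_assoc, hT,
        smul_zero, add_zero, Nat.cast_succ, add_smul, one_smul]
      abel
  rw [key, ZMod.natCast_zmod_val]

theorem rt_of_smul {T : Module.End (ZMod p) M} {c : ZMod p} (hc : c ≠ 0) (hT : T * T = 0)
    {g : LinearMap.GeneralLinearGroup (ZMod p) M} (hg : g ∈ X)
    (e : (g : Module.End (ZMod p) M) = 1 + c • T) : Rt X T := by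
  have h := (rt_of_mem (smul_sq T hT c) hg e).smul c⁻¹
  rwa [inv_smul_smul₀ hc] at h

theorem two_ne (hp : 5 ≤ p) : (2 : ZMod p) ≠ 0 := by
  intro h
  have : (p : ℕ) ∣ 2 := (ZMod.natCast_eq_zero_iff 2 p).mp (by exact_mod_cast h)
  have := Nat.le_of_dvd two_pos this
  omega

theorem three_ne (hp : 5 ≤ p) : (3 : ZMod p) ≠ 0 := by
  intro h
  have : (p : ℕ) ∣ 3 := (ZMod.natCast_eq_zero_iff 3 p).mp (by exact_mod_cast h)
  have := Nat.le_of_dvd (by norm_num) this
  omega

theorem card_ne_three (hp : 5 ≤ p) : Nat.card (ZMod p) ≠ 3 := by rw [Nat.card_zmod]; omega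

end prime

end Cfsg.Agent.H42.Eqv
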