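import Cfsg.Agent.Thompson.Section
import Cfsg.Agent.Coprime.Action
import Cfsg.Agent.Linear.Simple

/-!
Preliminaries for the equivariant quadratic-action theorem: sections through central kernels,
fixed points for a twisted conjugation action, and anticommuting elements of a space closed
under squares in which all non-zero members are units.
-/

set_option autoImplicit false
set_option linter.unusedSectionVars false

namespace Cfsg.Agent.H42.Eqv

open Thompson

universe u v w

/-- A section with trivial centre and perfect passes through a map with central kernel. -/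
theorem hasSection_of_central_kernel {Y : Type v} [Group Y] (hYc : Subgroup.center Y = ⊥)
    {H : Type u} [Group H] {H' : Type w} [Group H'] (φ : H →* H') (hker : φ.ker ≤ Subgroup.center H)
    (h : HasSection Y H) : HasSection Y H' := by
  obtain ⟨M, ψ, hψ⟩ := h
  have hk : ∀ m : M, φ (m : H) = 1 → ψ m = 1 := by
    intro m hm
    rw [← Subgroup.mem_bot, ← hYc, Subgroup.mem_center_iff]
    intro y
    obtain ⟨n, rfl⟩ := hψ y
    rw [← map_mul, ← map_mul]
    congr 1
    exact Subtype.ext (Subgroup.mem_center_iff.mp (hker hm) (n : H))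
  let f : M →* M.map φ := φ.subgroupMap M
  have hf : Function.Surjective f := φ.subgroupMap_surjective M
  have hle : f.ker ≤ ψ.ker := fun m hm => hk m (congrArg Subtype.val (MonoidHom.mem_ker.mp hm))
  exact ⟨M.map φ, (f.liftOfSurjective hf) ⟨ψ, hle⟩, fun y => by
    obtain ⟨m, rfl⟩ := hψ y
    exact ⟨f m, MonoidHom.liftOfRightInverse_comp_apply f _ (Function.rightInverse_surjInv hf) ⟨ψ, hle⟩ m⟩⟩

theorem center_PSL_two {p : ℕ} [Fact p.Prime] (hp : 5 ≤ p) :
    Subgroup.center (Matrix.ProjectiveSpecialLinearGroup (Fin 2) (ZMod p)) = ⊥ := by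
  have hs : IsSimpleGroup (Matrix.ProjectiveSpecialLinearGroup (Fin 2) (ZMod p)) :=
    Linear.isSimpleGroup_PSL_fin le_rfl (fun _ => by rw [Nat.card_zmod]; omega)
  refine (hs.eq_bot_or_eq_top_of_normal _ inferInstance).resolve_right fun htop => ?_
  obtain ⟨a, ha, ha2⟩ : ∃ a : ZMod p, a ≠ 0 ∧ a ^ 2 ≠ 1 := by
    refine ⟨2, ?_, ?_⟩
    · intro h
      have : (p : ℕ) ∣ 2 := (ZMod.natCast_eq_zero_iff 2 p).mp (by exact_mod_cast h)
      have := Nat.le_of_dvd two_pos this
      omega
    · intro h
      have h3 : ((3 : ℕ) : ZMod p) = 0 := by push_cast; linear_combination h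
      have := Nat.le_of_dvd (by norm_num) ((ZMod.natCast_eq_zero_iff 3 p).mp h3)
      omega
  obtain ⟨g, h, hne⟩ := Linear.exists_not_commute_PSL (ι := Fin 2) (F := ZMod p) (Or.inr ⟨a, ha, ha2⟩)
  exact hne (Subgroup.mem_center_iff.mp (htop ▸ Subgroup.mem_top h) g)

variable {k : Type u} [Field k] {R : Type v} [Ring R] [Algebra k R] [Finite k] [Finite R]

/-- In a space of a finite algebra over a finite field of odd order that contains `1`, is closed
under squares and consists of units apart from `0`, no two non-zero members anticommute. -/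
theorem no_anticommute (h2 : (2 : k) ≠ 0) [Nontrivial R] (J : Submodule k R) (h1 : (1 : R) ∈ J)
    (hsq : ∀ x ∈ J, x * x ∈ J) (hu : ∀ x ∈ J, x ≠ 0 → IsUnit x) {x y : R} (hx : x ∈ J) (hy : y ∈ J)
    (hxy : x * y + y * x = 0) : x = 0 ∨ y = 0 := by
  classical
  by_contra hcon
  push Not at hcon
  obtain ⟨hx0, hy0⟩ := hcon
  have hmul : ∀ z ∈ J, ∀ w ∈ J, Commute z w → z * w ∈ J := by
    intro z hz w hw hzw
    have h : (z + w) * (z + w) - z * z - w * w = (2 : k) • (z * w) := by
      rw [two_smul, add_mul, mul_add, mul_add, hzw.eq]; abel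
    have := J.smul_mem (2 : k)⁻¹ (h ▸ J.sub_mem (J.sub_mem (hsq _ (J.add_mem hz hw)) (hsq z hz)) (hsq w hw))
    rwa [smul_smul, inv_mul_cancel₀ h2, one_smul] at this
  have hyx : y * x = -(x * y) := eq_neg_of_add_eq_zero_right hxy
  set a := x * x with ha
  set b := y * y with hb
  have hax : Commute a x := (Commute.refl x).mul_left (Commute.refl x)
  have hby : Commute b y := (Commute.refl y).mul_left (Commute.refl y)
  have hay : Commute a y := by
    show x * x * y = y * (x * x)
    rw [← mul_assoc, hyx, neg_mul, mul_assoc, mul_assoc x y x, hyx, mul_neg, neg_neg]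
  have hbx : Commute b x := by
    show y * y * x = x * (y * y)
    rw [mul_assoc, hyx, mul_neg, ← mul_assoc, hyx, neg_mul, neg_neg, mul_assoc]
  have hab : Commute a b := hay.mul_right hay
  set S : Set R := {a, b} with hS
  set K := Algebra.adjoin k S with hK
  have hgen : ∀ z ∈ S, Commute z x ∧ Commute z y ∧ Commute z a ∧ Commute z b := by
    intro z hz
    rcases hz with rfl | rfl
    · exact ⟨hax, hay, Commute.refl _, hab⟩
    · exact ⟨hbx, hby, hab.symm, Commute.refl _⟩
  have hKc : ∀ z ∈ K, ∀ w : R, (∀ g ∈ S, Commute g w) → Commute z w := by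
    intro z hz w hw
    induction hz using Algebra.adjoin_induction with
    | mem g hg => exact hw g hg
    | algebraMap r => exact Algebra.commutes r w
    | add _ _ _ _ h h' => exact h.add_left h'
    | mul _ _ _ _ h h' => exact h.mul_left h'
  have hKcomm : ∀ z ∈ K, ∀ w ∈ K, Commute z w := fun z hz w hw =>
    hKc z hz w fun g hg => (hKc w hw g fun g' hg' => by
      rcases hg with rfl | rfl
      · exact (hgen g' hg').2.2.1
      · exact (hgen g' hg').2.2.2).symm
  have hKJ : ∀ z ∈ K, z ∈ J := by
    intro z hz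
    induction hz using Algebra.adjoin_induction with
    | mem g hg =>
      rcases hg with rfl | rfl
      · exact hsq x hx
      · exact hsq y hy
    | algebraMap r => rw [Algebra.algebraMap_eq_smul_one]; exact J.smul_mem r h1
    | add _ _ _ _ h h' => exact J.add_mem h h'
    | mul z w hz hw h h' => exact hmul z h w h' (hKcomm z hz w hw)
  letI : CommRing K := { (inferInstance : Ring K) with
    mul_comm := fun z w => Subtype.ext (hKcomm z z.2 w w.2) }
  haveI : NoZeroDivisors K := ⟨fun {z w} h => by
    by_cases hz : z = 0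
    · exact Or.inl hz
    · refine Or.inr (Subtype.ext ?_)
      have hzu := hu z (hKJ z z.2) fun e => hz (Subtype.ext e)
      exact (hzu.mul_right_eq_zero).mp (congrArg Subtype.val h)⟩
  haveI : Nontrivial K := ⟨⟨0, 1, fun e => zero_ne_one (α := R) (congrArg Subtype.val e)⟩⟩
  haveI : IsDomain K := NoZeroDivisors.to_isDomain K
  haveI : Fintype K := Fintype.ofFinite K
  letI : Field K := Fintype.fieldOfDomain K
  let a' : K := ⟨a, Algebra.subset_adjoin (Set.mem_insert _ _)⟩
  let b' : K := ⟨b, Algebra.subset_adjoin (Set.mem_insert_of_mem _ rfl)⟩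
  have ha0 : a' ≠ 0 := fun e => ((hu x hx hx0).mul (hu x hx hx0)).ne_zero (congrArg Subtype.val e)
  have hb0 : b' ≠ 0 := fun e => ((hu y hy hy0).mul (hu y hy hy0)).ne_zero (congrArg Subtype.val e)
  have hodd : Fintype.card K % 2 = 1 := by
    haveI : Finite k := ‹Finite k›
    refine FiniteField.odd_card_of_char_ne_two fun hc => h2 ?_
    have h := CharP.cast_eq_zero K (ringChar K)
    rw [hc] at h
    have : algebraMap k K 2 = 0 := by rw [map_ofNat]; exact_mod_cast h
    exact (algebraMap k K).injective (this.trans (map_zero _).symm)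
  obtain ⟨α, β, hαβ⟩ := FiniteField.exists_root_sum_quadratic (R := K)
    (f := Polynomial.C a' * Polynomial.X ^ 2 + Polynomial.C (-1)) (g := Polynomial.C b' * Polynomial.X ^ 2)
    (by rw [Polynomial.degree_add_C (by rw [Polynomial.degree_C_mul_X_pow 2 ha0]; decide),
      Polynomial.degree_C_mul_X_pow 2 ha0]; rfl)
    (Polynomial.degree_C_mul_X_pow 2 hb0) hodd
  simp only [Polynomial.eval_add, Polynomial.eval_mul, Polynomial.eval_C, Polynomial.eval_pow,
    Polynomial.eval_X] at hαβ
  have hval : a * ((α : R) * α) + b * ((β : R) * β) = 1 := by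
    have h' : a' * (α * α) + b' * (β * β) = 1 := by linear_combination hαβ
    simpa [a', b'] using congrArg Subtype.val h'
  set z := (α : R) * x + (β : R) * y with hz
  have cα : Commute (α : R) x := hKc _ α.2 x fun g hg => (hgen g hg).1
  have cα' : Commute (α : R) y := hKc _ α.2 y fun g hg => (hgen g hg).2.1
  have cβ : Commute (β : R) x := hKc _ β.2 x fun g hg => (hgen g hg).1
  have cβ' : Commute (β : R) y := hKc _ β.2 y fun g hg => (hgen g hg).2.1
  have cab : Commute (α : R) (β : R) := hKcomm _ α.2 _ β.2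
  have hzJ : z ∈ J := J.add_mem (hmul _ (hKJ _ α.2) x hx cα) (hmul _ (hKJ _ β.2) y hy cβ')
  have hz2 : z * z = 1 := by
    have e : z * z = ((α : R) * α) * (x * x) + ((α : R) * β) * (x * y + y * x) + ((β : R) * β) * (y * y) := by
      rw [hz, add_mul, mul_add, mul_add, cα.mul_mul_mul_comm, cβ'.mul_mul_mul_comm, cβ.symm.mul_mul_mul_comm,
        cα'.symm.mul_mul_mul_comm, cab.symm.eq, mul_add]
      abel
    rw [e, hxy, mul_zero, add_zero, ← hval]
    congr 1
    · exact (hKcomm _ (mul_mem α.2 α.2) _ a'.2).eq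
    · exact (hKcomm _ (mul_mem β.2 β.2) _ b'.2).eq
  have hsign : z = 1 ∨ z = -1 := by
    by_cases h : z - 1 = 0
    · exact Or.inl (sub_eq_zero.mp h)
    · right
      have hp : (z - 1) * (z + 1) = 0 := by rw [sub_mul, mul_add, mul_one, one_mul, hz2]; abel
      exact eq_neg_of_add_eq_zero_left (((hu _ (J.sub_mem hzJ h1) h).mul_right_eq_zero).mp hp)
  have hzc : ∀ w : R, Commute z w := by
    rcases hsign with h | h <;> intro w <;> rw [h]
    · exact Commute.one_left w
    · exact (Commute.one_left w).neg_left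
  have htwo : ∀ w : R, w + w = 0 → w = 0 := by
    intro w hw
    rw [← two_smul k w] at hw
    simpa [smul_smul, inv_mul_cancel₀ h2] using congrArg (fun v => (2 : k)⁻¹ • v) hw
  have hβ : (β : R) = 0 := by
    have h := (hzc x).eq
    rw [hz, add_mul, mul_add, ← mul_assoc x (α : R), ← cα.eq, ← mul_assoc x (β : R), ← cβ.eq] at h
    simp only [mul_assoc, hyx, mul_neg, add_right_inj] at h
    have h' := htwo _ (add_eq_zero_iff_eq_neg.mpr h.symm)
    exact ((hu x hx hx0).mul (hu y hy hy0)).mul_left_eq_zero.mp h'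
  have hα : (α : R) = 0 := by
    have h := (hzc y).eq
    rw [hz, add_mul, mul_add, ← mul_assoc y (α : R), ← cα'.eq, ← mul_assoc y (β : R), ← cβ'.eq, hβ] at h
    simp only [zero_mul, add_zero, mul_assoc, hyx, mul_neg] at h
    have h' := htwo _ (add_eq_zero_iff_eq_neg.mpr h)
    exact ((hu x hx hx0).mul (hu y hy hy0)).mul_left_eq_zero.mp h'
  rw [hα, hβ] at hval
  simp at hval

end Cfsg.Agent.H42.Eqv
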