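import Cfsg.Agent.H42.Eqv.Prelim
import Cfsg.Agent.H88.QSemisimple

/-!
Passing the hypothesis of the equivariant quadratic-action theorem to invariant subspaces and
quotients, and lifting its conclusion back through coprime fixed points.
-/

set_option autoImplicit false
set_option linter.unusedSectionVars false

namespace Cfsg.Agent.H42.Eqv

open Cfsg.Agent.H88 Thompson

universe u v

/-- Sections of fixed points lift along homomorphisms under coprime action. -/
theorem hasSection_lift_fixed {H H' : Type u} [Group H] [Group H'] [Finite H] {Y : Type v} [Group Y]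
    (f : H →* H') (K A : Subgroup H) (hAK : A ≤ Subgroup.normalizer (K : Set H))
    (hcop : (Nat.card A).Coprime (Nat.card K)) (hsolv : Group.IsSolvable A)
    (h : HasSection Y ↥(K.map f ⊓ Subgroup.centralizer (A.map f : Set H'))) :
    HasSection Y ↥(K ⊓ Subgroup.centralizer (A : Set H)) := by
  let g : ↥(K ⊓ Subgroup.centralizer (A : Set H)) →* ↥(K.map f ⊓ Subgroup.centralizer (A.map f : Set H')) :=
    (f.comp (K ⊓ Subgroup.centralizer (A : Set H)).subtype).codRestrict _ fun x =>
      ⟨⟨x, x.2.1, rfl⟩, Subgroup.mem_centralizer_iff.mpr (by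
        rintro _ ⟨a, ha, rfl⟩
        show f a * f x = f x * f a
        rw [← map_mul, ← map_mul, Subgroup.mem_centralizer_iff.mp x.2.2 a ha])⟩
  refine h.of_surjective (f := g) ?_
  rintro ⟨_, ⟨k, hk, rfl⟩, hc⟩
  have hNn : K ≤ Subgroup.normalizer ((K ⊓ f.ker : Subgroup H) : Set H) :=
    Subgroup.le_normalizer_iff.mpr fun x hx n hn =>
      ⟨K.mul_mem (K.mul_mem hx hn.1) (K.inv_mem hx), (MonoidHom.normal_ker f).conj_mem n hn.2 x⟩
  have hNA : A ≤ Subgroup.normalizer ((K ⊓ f.ker : Subgroup H) : Set H) :=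
    Subgroup.le_normalizer_iff.mpr fun x hx n hn =>
      ⟨Coprime.conj_mem (hAK hx) hn.1, (MonoidHom.normal_ker f).conj_mem n hn.2 x⟩
  obtain ⟨c, hc', hcn⟩ := Coprime.exists_centralizer_mem_of_comm_mem hAK hcop (Or.inl hsolv)
    (N := K ⊓ f.ker) inf_le_left hNn hNA hk fun a ha => ⟨K.mul_mem (Coprime.conj_mem (hAK ha) hk) (K.inv_mem hk), by
      show f (a * k * a⁻¹ * k⁻¹) = 1
      rw [map_mul, map_mul, map_mul, map_inv, map_inv,
        Subgroup.mem_centralizer_iff.mp hc (f a) ⟨a, ha, rfl⟩, mul_inv_cancel_right, mul_inv_cancel]⟩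
  refine ⟨⟨c, hc'⟩, Subtype.ext ?_⟩
  show f c = f k
  have : f (k⁻¹ * c) = 1 := hcn.2
  rw [map_mul, map_inv, inv_mul_eq_one] at this
  exact this.symm

variable {k : Type v} [Field k] {M : Type u} [AddCommGroup M] [Module k M]

/-- Some pair of quadratically acting elements of `X` does not generate a unipotent group. -/
def Bad (X : Subgroup (LinearMap.GeneralLinearGroup k M)) : Prop :=
  ∃ A B : Module.End k M, Rt X A ∧ Rt X B ∧ ¬ IsNilpotent (A * B + B * A)

/-- The endomorphisms leaving a subspace invariant. -/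
def stabAlg (W : Submodule k M) : Subalgebra k (Module.End k M) where
  carrier := {T | ∀ w ∈ W, T w ∈ W}
  mul_mem' := fun {S T} hS hT w hw => hS _ (hT w hw)
  one_mem' := fun _ hw => hw
  add_mem' := fun {S T} hS hT w hw => W.add_mem (hS w hw) (hT w hw)
  zero_mem' := fun _ _ => W.zero_mem
  algebraMap_mem' := fun r w hw => W.smul_mem r hw

/-- Restriction. -/
noncomputable def resAlg (W : Submodule k M) : stabAlg W →ₐ[k] Module.End k W :=
  AlgHom.ofLinearMap
    { toFun := fun T => (T : Module.End k M).restrict T.2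
      map_add' := fun S T => by ext w; rfl
      map_smul' := fun r T => by ext w; rfl }
    (by ext w; rfl) (fun S T => by ext w; rfl)

/-- The map induced on the quotient. -/
noncomputable def quotAlg (W : Submodule k M) : stabAlg W →ₐ[k] Module.End k (M ⧸ W) :=
  AlgHom.ofLinearMap
    { toFun := fun T => W.mapQ W (T : Module.End k M) T.2
      map_add' := fun S T => by ext m; rfl
      map_smul' := fun r T => by ext m; rfl }
    (by ext m; rfl) (fun S T => by ext m; rfl)

theorem nilpotent_of_res_quot {W : Submodule k M} (T : stabAlg W) (h1 : IsNilpotent (resAlg W T))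
    (h2 : IsNilpotent (quotAlg W T)) : IsNilpotent (T : Module.End k M) := by
  obtain ⟨a, ha⟩ := h1
  obtain ⟨b, hb⟩ := h2
  refine ⟨a + b, LinearMap.ext fun m => ?_⟩
  rw [← map_pow] at ha hb
  have hmem : ((T : Module.End k M) ^ b) m ∈ W := by
    rw [← Submodule.Quotient.mk_eq_zero]
    have := congrArg (fun f : Module.End k (M ⧸ W) => f (Submodule.Quotient.mk m)) hb
    exact this
  have h := congrArg (fun f : Module.End k W => ((f ⟨_, hmem⟩ : W) : M)) ha
  rw [pow_add, Module.End.mul_apply]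
  exact h

variable {H : Subgroup (LinearMap.GeneralLinearGroup k M)} {W : Submodule k M}

/-- The homomorphism to the linear group of a section given by an algebra map. -/
noncomputable def liftGL (hH : ∀ g ∈ H, (g : Module.End k M) ∈ stabAlg W) {M' : Type u} [AddCommGroup M']
    [Module k M'] (φ : stabAlg W →ₐ[k] Module.End k M') : ↥H →* LinearMap.GeneralLinearGroup k M' :=
  MonoidHom.toHomUnits
    { toFun := fun g => φ ⟨((g : LinearMap.GeneralLinearGroup k M) : Module.End k M), hH g g.2⟩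
      map_one' := map_one φ
      map_mul' := fun g h => map_mul φ ⟨_, hH g g.2⟩ ⟨_, hH h h.2⟩ }

theorem liftGL_val (hH : ∀ g ∈ H, (g : Module.End k M) ∈ stabAlg W) {M' : Type u} [AddCommGroup M']
    [Module k M'] (φ : stabAlg W →ₐ[k] Module.End k M') (g : ↥H) :
    ((liftGL hH φ g : LinearMap.GeneralLinearGroup k M') : Module.End k M') =
      φ ⟨((g : LinearMap.GeneralLinearGroup k M) : Module.End k M), hH g g.2⟩ := rfl

variable {X : Subgroup (LinearMap.GeneralLinearGroup k M)}

theorem rt_mem_stab (hH : ∀ g ∈ H, (g : Module.End k M) ∈ stabAlg W) (hXH : X ≤ H) {A : Module.End k M}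
    (hA : Rt X A) : A ∈ stabAlg W := by
  obtain ⟨g, hg, e⟩ := hA.2 1
  rw [one_smul] at e
  have h := (stabAlg W).sub_mem (hH g (hXH hg)) (stabAlg W).one_mem
  rwa [e, add_sub_cancel_left] at h

theorem rt_lift (hH : ∀ g ∈ H, (g : Module.End k M) ∈ stabAlg W) (hXH : X ≤ H) {M' : Type u} [AddCommGroup M']
    [Module k M'] (φ : stabAlg W →ₐ[k] Module.End k M') {A : Module.End k M} (hA : Rt X A) :
    Rt ((X.subgroupOf H).map (liftGL hH φ)) (φ ⟨A, rt_mem_stab hH hXH hA⟩) := by
  refine ⟨?_, fun c => ?_⟩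
  · rw [← map_mul, show (⟨A, rt_mem_stab hH hXH hA⟩ : stabAlg W) * ⟨A, rt_mem_stab hH hXH hA⟩ = 0 from
      Subtype.ext hA.1, map_zero]
  · obtain ⟨g, hg, e⟩ := hA.2 c
    refine ⟨_, ⟨⟨g, hXH hg⟩, hg, rfl⟩, ?_⟩
    rw [liftGL_val, ← map_one φ, ← map_smul, ← map_add]
    exact congrArg φ (Subtype.ext e)

/-- An invariant subspace: one of the two sections keeps the hypothesis. -/
theorem bad_res_or_quot (hH : ∀ g ∈ H, (g : Module.End k M) ∈ stabAlg W) (hXH : X ≤ H) (hX : Bad X) :
    Bad ((X.subgroupOf H).map (liftGL hH (resAlg W))) ∨ Bad ((X.subgroupOf H).map (liftGL hH (quotAlg W))) := by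
  obtain ⟨A, B, hA, hB, hn⟩ := hX
  set T : stabAlg W := ⟨A, rt_mem_stab hH hXH hA⟩ * ⟨B, rt_mem_stab hH hXH hB⟩
    + ⟨B, rt_mem_stab hH hXH hB⟩ * ⟨A, rt_mem_stab hH hXH hA⟩ with hT
  by_cases h1 : IsNilpotent (resAlg W T)
  · refine Or.inr ⟨_, _, rt_lift hH hXH _ hA, rt_lift hH hXH _ hB, ?_⟩
    intro h2
    rw [← map_mul, ← map_mul, ← map_add] at h2
    exact hn (nilpotent_of_res_quot T h1 h2)
  · refine Or.inl ⟨_, _, rt_lift hH hXH _ hA, rt_lift hH hXH _ hB, ?_⟩
    rw [← map_mul, ← map_mul, ← map_add]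
    exact h1

end Cfsg.Agent.H42.Eqv
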