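import Cfsg.Agent.H42.Eqv.Main
import Cfsg.Agent.Thompson.PStable

/-!
Failure of `p`-stability under a coprime acting group: a section `PSL₂(p)` in the fixed points.
-/

set_option autoImplicit false
set_option linter.unusedSectionVars false

namespace Cfsg.Agent.H42.Eqv

open Cfsg.Agent.H88 Thompson Subgroup
open scoped commutatorElement IsMulCommutative

universe u v

section unipotent

variable {p : ℕ} [Fact p.Prime] {M : Type u} [AddCommGroup M] [Module (ZMod p) M] [Finite M]

/-- Two square zero deviations with nilpotent `T S + S T` generate a `p`-group. -/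
theorem pow_eq_one_of_nilpotent {T S : Module.End (ZMod p) M} (hT : T * T = 0) (hS : S * S = 0)
    (hn : IsNilpotent (T * S + S * T)) {g : LinearMap.GeneralLinearGroup (ZMod p) M}
    (hg : g ∈ Subgroup.closure {oneAdd T hT, oneAdd S hS}) : ∃ m : ℕ, g ^ p ^ m = 1 := by
  rcases subsingleton_or_nontrivial M with hM | hM
  · exact ⟨0, Units.ext (LinearMap.ext fun m => Subsingleton.elim _ _)⟩
  obtain ⟨n, hn⟩ := hn
  set Sset : Set (Module.End (ZMod p) M) := {T, S} with hSset
  set C := T * S + S * T with hC
  have hsq : ∀ x ∈ Sset, x * x = 0 := by rintro x (rfl | rfl) <;> assumption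
  have hxyz : ∀ x ∈ Sset, ∀ y ∈ Sset, ∀ z ∈ Sset, x ≠ y → y ≠ z → x * y * z = C * z := by
    intro x hx y hy z hz hxy hyz
    rcases hx with hx | hx <;> rcases hy with hy | hy <;> rcases hz with hz | hz <;>
      (try exact absurd (hx.trans hy.symm) hxy) <;> (try exact absurd (hy.trans hz.symm) hyz) <;> rw [hx, hy, hz, hC]
    · rw [add_mul, mul_assoc S T T, hT, mul_zero, add_zero]
    · rw [add_mul, mul_assoc T S S, hS, mul_zero, zero_add]
  have key : ∀ j, ∀ l : List (Module.End (ZMod p) M), (∀ a ∈ l, a ∈ Sset) → l.length = 2 * j + 1 →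
      ∃ Y, l.prod = C ^ j * Y := by
    intro j
    induction j with
    | zero => intro l _ _; exact ⟨l.prod, by simp⟩
    | succ j ih =>
      intro l hl hlen
      match l, hlen with
      | x :: y :: z :: rest, hlen =>
        simp only [List.prod_cons]
        by_cases hxy : x = y
        · exact ⟨0, by rw [hxy, ← mul_assoc, hsq y (hl y (by simp)), zero_mul, mul_zero]⟩
        by_cases hyz : y = z
        · exact ⟨0, by rw [hyz, ← mul_assoc z, hsq z (hl z (by simp)), zero_mul, mul_zero, mul_zero]⟩
        obtain ⟨Y, hY⟩ := ih (z :: rest) (fun a ha => hl a (by simp at ha ⊢; tauto))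
          (by simp at hlen ⊢; omega)
        rw [List.prod_cons] at hY
        refine ⟨Y, ?_⟩
        rw [← mul_assoc, ← mul_assoc, hxyz x (hl x (by simp)) y (hl y (by simp)) z (hl z (by simp)) hxy hyz,
          mul_assoc, hY, pow_succ', mul_assoc]
      | [], hlen => simp at hlen
      | [_], hlen => simp at hlen
      | [_, _], hlen => simp at hlen
  have hwords : ∀ l : List (Module.End (ZMod p) M), (∀ a ∈ l, a ∈ Sset) → l.length = 2 * n + 1 → l.prod = 0 := by
    intro l hl hlen
    obtain ⟨Y, hY⟩ := key n l hl hlen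
    rw [hY, hn, zero_mul]
  obtain ⟨-, hd⟩ := closure_dev (S := Sset) (Q := 1) (one_mul 1) (fun x hx => by
    refine ⟨Commute.one_right _, ?_⟩
    rcases hx with rfl | rfl <;> rw [mul_one, mul_one, oneAdd_val, oneAdd_inv_val, add_sub_cancel_left,
      sub_sub_cancel_left]
    · exact ⟨mem_wordSpan_one (Set.mem_insert _ _), Submodule.neg_mem _ (mem_wordSpan_one (Set.mem_insert _ _))⟩
    · exact ⟨mem_wordSpan_one (Set.mem_insert_of_mem _ rfl),
        Submodule.neg_mem _ (mem_wordSpan_one (Set.mem_insert_of_mem _ rfl))⟩) hg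
  rw [mul_one] at hd
  obtain ⟨L, hL⟩ := isNilpotent_of_mem_wordSpan hwords hd
  haveI : CharP (Module.End (ZMod p) M) p :=
    charP_of_injective_algebraMap (algebraMap (ZMod p) (Module.End (ZMod p) M)).injective p
  set D := (g : Module.End (ZMod p) M) - 1 with hD
  refine ⟨L, Units.ext ?_⟩
  rw [Units.val_pow_eq_pow_val, Units.val_one, show (g : Module.End (ZMod p) M) = 1 + D by rw [hD]; abel,
    add_pow_char_pow_of_commute p L (Commute.one_left D), one_pow,
    pow_eq_zero_of_le (Nat.lt_pow_self (Fact.out : p.Prime).one_lt).le hL, add_zero]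

end unipotent

/-- An action on an elementary abelian group, over the prime field. -/
def zmodRep (p : ℕ) {H : Type u} [Monoid H] {W : Type v} [AddCommGroup W] [Module (ZMod p) W]
    (f : H →* AddMonoid.End W) : H →* Module.End (ZMod p) W where
  toFun h := AddMonoidHom.toZModLinearMap p (f h : W →+ W)
  map_one' := LinearMap.ext fun w => by
    show f 1 w = w
    rw [map_one]; rfl
  map_mul' x y := LinearMap.ext fun w => by
    show f (x * y) w = f x (f y w)
    rw [map_mul]; rfl

variable {H : Type u} [Group H] [Finite H] {p : ℕ} [Fact p.Prime]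

/-- The vector space structure of an elementary abelian subgroup. -/
@[reducible] def zmodModuleOf (V : Subgroup H) [IsMulCommutative V] (hV' : ∀ v : Additive V, p • v = 0) :
    Module (ZMod p) (Additive V) := AddCommGroup.zmodModule hV'

/-- The elementary case. -/
theorem psl_of_elementary (hp : 5 ≤ p) (K A : Subgroup H) [K.Normal] (hKA : K ⊔ A = ⊤)
    (hcop : (Nat.card A).Coprime (Nat.card K)) (hAp : (Nat.card A).Coprime p) (hsolv : Group.IsSolvable A)
    (V : Subgroup H) [V.Normal] (hVc : IsMulCommutative V) (hVp : ∀ v ∈ V, v ^ p = 1) {a : H}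
    (hq : ⁅⁅V, zpowers a⁆, zpowers a⁆ = ⊥) (hna : a ∉ stabPre p V) :
    HasSection (Matrix.ProjectiveSpecialLinearGroup (Fin 2) (ZMod p))
      ↥(K ⊓ centralizer (A : Set H)) := by
  have := hVc
  set π := QuotientGroup.mk' (centralizer (V : Set H))
  by_cases hall : ∀ g : H, IsPGroup p (closure ({π a, π g * π a * (π g)⁻¹} : Set (H ⧸ centralizer (V : Set H))))
  · refine absurd ?_ hna
    obtain ⟨N, hN1, hN2, haN⟩ := baer_suzuki (x := π a) (p := p) (fun y => by
      obtain ⟨g, rfl⟩ := QuotientGroup.mk'_surjective _ y; exact hall g)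
    exact Cores.le_pCore (hN := hN1) hN2 haN
  push Not at hall
  obtain ⟨g, hg⟩ := hall
  have hN : (⊤ : Subgroup H) ≤ normalizer (V : Set H) := (normalizer_eq_top (H := V)).ge
  have hV' : ∀ v : Additive V, p • v = 0 := fun v => by
    refine congrArg Additive.ofMul (Subtype.ext ?_)
    exact hVp _ (Additive.toMul v : V).2
  letI := zmodModuleOf (p := p) V hV'
  haveI : Finite (Additive V) := inferInstanceAs (Finite V)
  let cj : H →* AddMonoid.End (Additive V) := (conjEnd hN).comp Subgroup.topEquiv.symm.toMonoidHom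
  let rp : H →* Module.End (ZMod p) (Additive V) := zmodRep p cj
  let ρ : H →* LinearMap.GeneralLinearGroup (ZMod p) (Additive V) := rp.toHomUnits
  have hρ : ∀ (x : H) (v : Additive V),
      ((ρ x : LinearMap.GeneralLinearGroup (ZMod p) (Additive V)) : Module.End (ZMod p) (Additive V)) v =
        conjEnd hN ⟨x, mem_top x⟩ v := fun _ _ => rfl
  have hker : ∀ x : H, ρ x = 1 → x ∈ centralizer (V : Set H) := fun x hx =>
    (conjEnd_eq_one_iff hN ⟨x, mem_top x⟩).mp (AddMonoidHom.ext fun v => (hρ x v).symm.trans (by rw [hx]; rfl))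
  set T : Module.End (ZMod p) (Additive V) := (ρ a : Module.End (ZMod p) (Additive V)) - 1 with hT
  have hTsq : T * T = 0 := LinearMap.ext fun v =>
    congrArg (fun f : AddMonoid.End (Additive V) => f v) (conjEnd_quadratic hN ⟨a, mem_top a⟩ hq)
  have hρa : ρ a = oneAdd T hTsq := Units.ext (by rw [oneAdd_val, hT]; abel)
  set X := K.map ρ with hX
  have hpowT : ∀ m : ℕ, ((oneAdd T hTsq ^ m : LinearMap.GeneralLinearGroup (ZMod p) (Additive V)) :
      Module.End (ZMod p) (Additive V)) = 1 + (m : ZMod p) • T := by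
    intro m
    induction m with
    | zero => simp
    | succ m ih =>
      rw [pow_succ, Units.val_mul, ih, oneAdd_val, add_mul, one_mul, mul_add, mul_one, smul_mul_assoc, hTsq,
        smul_zero, add_zero, Nat.cast_succ, add_smul, one_smul]
      abel
  have hRtT : Rt X T := by
    have hc : (Nat.card A : ZMod p) ≠ 0 := fun e =>
      (Fact.out : p.Prime).coprime_iff_not_dvd.mp hAp.symm ((ZMod.natCast_eq_zero_iff _ p).mp e)
    refine rt_of_smul hc hTsq (g := oneAdd T hTsq ^ Nat.card A) ?_ (hpowT _)
    refine ⟨a ^ Nat.card A, ?_, by rw [map_pow, hρa]⟩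
    have ha : a ∈ ((K ⊔ A : Subgroup H) : Set H) := by rw [hKA]; exact mem_top a
    rw [Subgroup.normal_mul] at ha
    obtain ⟨x, hx, y, hy, rfl⟩ := ha
    refine (QuotientGroup.eq_one_iff (N := K) _).mp ?_
    have hy1 : y ^ Nat.card A = 1 := congrArg Subtype.val (pow_card_eq_one' (x := (⟨y, hy⟩ : A)))
    rw [QuotientGroup.mk_pow, QuotientGroup.mk_mul, (QuotientGroup.eq_one_iff x).mpr hx, one_mul,
      ← QuotientGroup.mk_pow, hy1, QuotientGroup.mk_one]
  have hXn : ∀ x : H, ρ x ∈ normalizer (X : Set (LinearMap.GeneralLinearGroup (ZMod p) (Additive V))) := by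
    intro x
    refine Coprime.mem_normalizer_of_map_conj ?_
    rw [hX, Subgroup.map_map, show (MulAut.conj (ρ x)).toMonoidHom.comp ρ = ρ.comp (MulAut.conj x).toMonoidHom from
      MonoidHom.ext fun y => by simp, ← Subgroup.map_map,
      map_conj_of_mem_normalizer ((normalizer_eq_top (H := K)).ge (mem_top x))]
  set S := conjE (ρ g) T with hS
  have hRtS : Rt X S := rt_conj_norm (hXn g) hRtT
  have hρb : ρ (g * a * g⁻¹) = oneAdd S hRtS.sq := Units.ext (by
    rw [map_mul, map_mul, map_inv, hρa, Units.val_mul, Units.val_mul, oneAdd_val, oneAdd_val, hS, conjE_one_add])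
  have hbad : Bad X := by
    refine ⟨T, S, hRtT, hRtS, fun hn => hg ?_⟩
    rintro ⟨y, hy⟩
    have hy' : y ∈ (closure ({a, g * a * g⁻¹} : Set H)).map π := by
      rw [MonoidHom.map_closure, Set.image_pair, map_mul, map_mul, map_inv]
      exact hy
    obtain ⟨z, hz, rfl⟩ := hy'
    have hz' : ρ z ∈ closure ({oneAdd T hTsq, oneAdd S hRtS.sq} : Set (LinearMap.GeneralLinearGroup (ZMod p) (Additive V))) := by
      have := mem_map_of_mem ρ hz
      rwa [MonoidHom.map_closure, Set.image_pair, hρa, hρb] at this
    obtain ⟨m, hm⟩ := pow_eq_one_of_nilpotent hTsq hRtS.sq hn hz'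
    refine ⟨m, Subtype.ext ((map_pow π z _).symm.trans ((QuotientGroup.eq_one_iff _).mpr (hker _ ?_)))⟩
    rw [map_pow]; exact hm
  have hdA : Nat.card (A.map ρ) ∣ Nat.card A := Subgroup.card_map_dvd A ρ
  have hdX : Nat.card X ∣ Nat.card K := Subgroup.card_map_dvd K ρ
  refine hasSection_lift_fixed ρ K A (le_top.trans (normalizer_eq_top (H := K)).ge) hcop hsolv
    (kl hp ?_ ((Nat.Coprime.coprime_dvd_left hdA hcop).coprime_dvd_right hdX)
      (Group.isSolvable_of_surjective (f := ρ.subgroupMap A) (ρ.subgroupMap_surjective A)) hbad)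
  rintro _ ⟨x, -, rfl⟩
  exact hXn x

/-- Failure of stability gives the section. -/
theorem psl_of_not_stable (hp : 5 ≤ p) : ∀ (n : ℕ) (H : Type u) [Group H] [Finite H] (K A : Subgroup H)
    [K.Normal], Nat.card H ≤ n → K ⊔ A = ⊤ → (Nat.card A).Coprime (Nat.card K) → (Nat.card A).Coprime p →
    Group.IsSolvable A → ¬ StableOnNormal p H →
      HasSection (Matrix.ProjectiveSpecialLinearGroup (Fin 2) (ZMod p))
        ↥(K ⊓ centralizer (A : Set H)) := by
  intro n
  induction n with
  | zero => intro H _ _ _ _ _ hc; exact absurd hc (Nat.not_le.mpr Nat.card_pos)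
  | succ n ih =>
    intro H _ _ K A _ hcard hKA hcop hAp hsolv hns
    by_contra hno
    refine hns fun B hBn hB a hq => ?_
    show a ∈ stabPre p B
    by_cases hB0 : B = ⊥
    · refine centralizer_le_stabPre B ?_
      subst hB0
      exact mem_centralizer_iff.mpr fun v hv => by rw [mem_bot.mp hv, one_mul, mul_one]
    set V := omegaCenterOf p B
    have hVc : IsMulCommutative V := isMulCommutative_iff_forall.mpr fun x hx y hy =>
      (mem_centralizer_iff.mp hy.2.1 x hx.1)
    have hVB : V ≤ B := fun x hx => hx.1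
    have hqV : ⁅⁅V, zpowers a⁆, zpowers a⁆ = ⊥ :=
      eq_bot_iff.mpr (le_trans (commutator_mono (commutator_mono hVB le_rfl) le_rfl) hq.le)
    have h1 : a ∈ stabPre p V := by
      by_contra h
      exact hno (psl_of_elementary hp K A hKA hcop hAp hsolv V hVc (fun v hv => hv.2.2) hqV h)
    set π := QuotientGroup.mk' V with hπ
    have : (B.map π).Normal := hBn.map π (QuotientGroup.mk'_surjective _)
    have hcardlt : Nat.card (H ⧸ V) ≤ n := by
      have hV0 : V ≠ ⊥ := by
        have : Nontrivial B := B.nontrivial_iff_ne_bot.mpr hB0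
        have hc : Nontrivial (Subgroup.center B) := hB.center_nontrivial
        obtain ⟨m, hm0, hm⟩ := (hB.to_subgroup (Subgroup.center B)).nontrivial_iff_card.mp hc
        obtain ⟨y, hy⟩ := exists_prime_orderOf_dvd_card' p (G := Subgroup.center B) (hm ▸ dvd_pow_self p hm0.ne')
        intro hV
        have hyV : ((y : B) : H) ∈ V := ⟨(y : B).2, mem_centralizer_iff.mpr fun z hz =>
            congrArg Subtype.val (mem_center_iff.mp y.2 ⟨z, hz⟩), by
          rw [← SubgroupClass.coe_pow, ← SubgroupClass.coe_pow, ← hy, pow_orderOf_eq_one]; rfl⟩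
        rw [hV, mem_bot] at hyV
        rw [show y = 1 from Subtype.ext (Subtype.ext hyV), orderOf_one] at hy
        exact (Fact.out : p.Prime).one_lt.ne hy
      have hindex := V.card_mul_index
      rw [index_eq_card] at hindex
      have hV1 : 2 ≤ Nat.card V := (V.one_lt_card_iff_ne_bot).mpr hV0
      have hq0 : 0 < Nat.card (H ⧸ V) := Nat.card_pos
      nlinarith
    have h2 : π a ∈ stabPre p (B.map π) := by
      by_contra h
      have hns' : ¬ StableOnNormal p (H ⧸ V) := fun hst => h (hst _ (hB.map π) (π a) (by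
        have := congrArg (Subgroup.map π) hq
        rw [map_commutator, map_commutator, MonoidHom.map_zpowers, Subgroup.map_bot] at this
        exact this))
      have : (K.map π).Normal := Normal.map inferInstance π (QuotientGroup.mk'_surjective _)
      have hdA : Nat.card (A.map π) ∣ Nat.card A := Subgroup.card_map_dvd A π
      have hs := ih (H ⧸ V) (K.map π) (A.map π) hcardlt
        (by rw [← Subgroup.map_sup, hKA, Subgroup.map_top_of_surjective π (QuotientGroup.mk'_surjective _)])
        ((Nat.Coprime.coprime_dvd_left hdA hcop).coprime_dvd_right (Subgroup.card_map_dvd K π))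
        (Nat.Coprime.coprime_dvd_left hdA hAp)
        (Group.isSolvable_of_surjective (f := π.subgroupMap A) (π.subgroupMap_surjective A)) hns'
      exact hno (hasSection_lift_fixed π K A (le_top.trans (normalizer_eq_top (H := K)).ge) hcop hsolv hs)
    set D := stabPre p V ⊓ (stabPre p (B.map π)).comap π with hD
    suffices hD' : D ≤ stabPre p B from hD' ⟨h1, h2⟩
    set σ := QuotientGroup.mk' (centralizer (B : Set H))
    have : (D.map σ).Normal := Normal.map inferInstance σ (QuotientGroup.mk'_surjective _)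
    rw [stabPre, ← map_le_iff_le_comap]
    refine Cores.le_pCore ?_
    rintro ⟨_, d, hd, rfl⟩
    obtain ⟨i, hi⟩ := Cores.pCore_isPGroup (p := p) ⟨_, hd.1⟩
    have hdi : d ^ p ^ i ∈ centralizer (V : Set H) :=
      (QuotientGroup.eq_one_iff _).mp (congrArg Subtype.val hi)
    obtain ⟨j, hj⟩ := Cores.pCore_isPGroup (p := p) ⟨_, hd.2⟩
    have hdj : π d ^ p ^ j ∈ centralizer ((B.map π : Subgroup (H ⧸ V)) : Set (H ⧸ V)) :=
      (QuotientGroup.eq_one_iff _).mp (congrArg Subtype.val hj)
    obtain ⟨k, hk⟩ := Cfsg.Agent.Fusion.exists_pow_coprime (p := p) (d ^ p ^ (i + j))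
    set g := (d ^ p ^ (i + j)) ^ p ^ k with hg
    have hgV : g ∈ centralizer (V : Set H) := by
      rw [hg, pow_add, pow_mul]; exact pow_mem (pow_mem hdi _) _
    have hgB : π g ∈ centralizer ((B.map π : Subgroup (H ⧸ V)) : Set (H ⧸ V)) := by
      rw [hg, map_pow, map_pow, pow_add, mul_comm, pow_mul]; exact pow_mem (pow_mem hdj _) _
    have hgc : g ∈ centralizer (B : Set H) := by
      refine mem_centralizer_iff.mpr fun b hb => ?_
      set c := b⁻¹ * (g * b * g⁻¹) with hc
      have hcV : c ∈ V := by
        refine (QuotientGroup.eq_one_iff (N := V) _).mp ?_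
        show π c = 1
        rw [hc, map_mul, map_inv, map_mul, map_mul, map_inv,
          ← mem_centralizer_iff.mp hgB _ ⟨b, hb, rfl⟩, mul_inv_cancel_right, inv_mul_cancel]
      have hgc : Commute g c := (mem_centralizer_iff.mp hgV c hcV).symm
      have hgb : g * b = b * (c * g) := by rw [hc]; group
      have hn : ∀ m : ℕ, g ^ m * b = b * (c ^ m * g ^ m) := by
        intro m
        induction m with
        | zero => simp
        | succ m ihm =>
          calc g ^ (m + 1) * b = g * (g ^ m * b) := by rw [pow_succ', mul_assoc]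
            _ = (g * b) * (c ^ m * g ^ m) := by rw [ihm, mul_assoc]
            _ = b * (c * ((g * c ^ m) * g ^ m)) := by rw [hgb]; simp only [mul_assoc]
            _ = _ := by
              rw [(hgc.pow_right m).eq, pow_succ' c, pow_succ' g]
              simp only [mul_assoc]
      have h := hn (orderOf g)
      rw [pow_orderOf_eq_one, one_mul, mul_one] at h
      have hc1 : c = 1 := orderOf_eq_one_iff.mp (Nat.eq_one_of_dvd_coprimes hk
        (orderOf_dvd_of_pow_eq_one (left_eq_mul.mp h)) (orderOf_dvd_of_pow_eq_one hcV.2.2))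
      rw [hgb, hc1, one_mul]
    refine ⟨i + j + k, Subtype.ext ?_⟩
    show σ d ^ p ^ (i + j + k) = 1
    rw [← map_pow, pow_add, pow_mul]
    exact (QuotientGroup.eq_one_iff _).mpr hgc

end Cfsg.Agent.H42.Eqv
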