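import Cfsg.Agent.H42.Eqv.Stable
import Cfsg.Agent.Thompson.Forms
import Cfsg.Agent.S0205

/-!
`Z(J(S))` is normal in a constrained group with an acting group whose fixed points have no section
`PSL₂(p)`.
-/

set_option autoImplicit false
set_option linter.unusedSectionVars false

namespace Cfsg.Agent.H42.Eqv

open Thompson Subgroup SemidirectProduct

universe u

variable {G : Type u} [Group G] [Finite G] {p : ℕ} [Fact p.Prime]

theorem two_dvd_card_of_hasSection_SL2 (hp : p ≠ 2)
    (h : HasSection (Matrix.SpecialLinearGroup (Fin 2) (ZMod p)) G) : 2 ∣ Nat.card G := by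
  obtain ⟨M, φ, hφ⟩ := h
  refine dvd_trans ?_ (M.card_subgroup_dvd_card)
  refine dvd_trans ?_ (Subgroup.card_dvd_of_surjective φ hφ)
  set n : Matrix.SpecialLinearGroup (Fin 2) (ZMod p) := ⟨!![-1, 0; 0, -1], by simp [Matrix.det_fin_two]⟩
  have h1 : n ^ 2 = 1 := by
    rw [sq]
    refine Subtype.ext ?_
    show (!![-1, 0; 0, -1] : Matrix (Fin 2) (Fin 2) (ZMod p)) * !![-1, 0; 0, -1] = 1
    ext i j; fin_cases i <;> fin_cases j <;> simp [Matrix.mul_apply, Fin.sum_univ_two]
  have h2 : n ≠ 1 := by
    intro e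
    have he := congrArg (fun g : Matrix.SpecialLinearGroup (Fin 2) (ZMod p) => g 0 0) e
    simp [n] at he
    haveI : NeZero (2 : ZMod p) := ⟨fun e => hp ((Nat.prime_dvd_prime_iff_eq Fact.out Nat.prime_two).mp
      ((ZMod.natCast_eq_zero_iff 2 p).mp (by exact_mod_cast e)))⟩
    exact two_ne_zero (α := ZMod p) (by linear_combination -he)
  exact (orderOf_eq_prime h1 h2).symm.dvd.trans (_root_.orderOf_dvd_natCard n)

theorem zjay_normal_of_fixed (hp : 5 ≤ p) (hc : centralizer (pCore p G : Set G) ≤ pCore p G)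
    (A : Subgroup (MulAut G)) (hA : (Nat.card A).Coprime (Nat.card G))
    (C : Subgroup G) (hC : ∀ g : G, (∀ a ∈ A, a g = g) → g ∈ C)
    (hfix : ¬ HasSection (Matrix.ProjectiveSpecialLinearGroup (Fin 2) (ZMod p)) C) (S : Sylow p G) :
    (zjay 0 (S : Subgroup G)).Normal := by
  have hp2 : p ≠ 2 := by omega
  by_cases hpG : ¬ p ∣ Nat.card G
  · have : (S : Subgroup G) = ⊥ := by
      refine Subgroup.card_eq_one.mp ?_
      rw [S.card_eq_multiplicity, Nat.factorization_eq_zero_of_not_dvd hpG, pow_zero]
    rw [show zjay 0 (S : Subgroup G) = ⊥ from le_bot_iff.mp (this ▸ zjay_le)]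
    infer_instance
  push Not at hpG
  by_cases hsl : ¬ HasSection (Matrix.SpecialLinearGroup (Fin 2) (ZMod p)) G
  · exact zjay_zero_normal hp2 hc (stableOnNormal_of_sl2_free hp2 hsl) S
  push Not at hsl
  have hAp : (Nat.card A).Coprime p := hA.coprime_dvd_right hpG
  have hodd : Odd (Nat.card A) :=
    Nat.not_even_iff_odd.mp fun he => by
      have := Nat.eq_one_of_dvd_coprimes hA (even_iff_two_dvd.mp he) (two_dvd_card_of_hasSection_SL2 hp2 hsl)
      omega
  have hsolv : Group.IsSolvable A := Cfsg.Agent.S0205.result hodd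
  haveI : Finite (G ⋊[A.subtype] ↥A) := Finite.of_equiv _ SemidirectProduct.equivProd.symm
  set i : G →* (G ⋊[A.subtype] ↥A) := inl with hi
  set j : ↥A →* (G ⋊[A.subtype] ↥A) := inr with hj
  set K := i.range with hK
  haveI : K.Normal := by rw [hK, hi, range_inl_eq_ker_rightHom]; infer_instance
  have hKA : K ⊔ j.range = ⊤ := eq_top_iff.mpr fun x _ => by
    rw [← inl_left_mul_inr_right x]
    exact mul_mem_sup ⟨_, rfl⟩ ⟨_, rfl⟩
  have hcardK : Nat.card K = Nat.card G :=
    Nat.card_congr (MonoidHom.ofInjective (f := i) inl_injective).toEquiv.symm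
  have hcardA : Nat.card j.range = Nat.card A :=
    Nat.card_congr (MonoidHom.ofInjective (f := j) inr_injective).toEquiv.symm
  have hcop : (Nat.card j.range).Coprime (Nat.card K) := by rw [hcardA, hcardK]; exact hA
  -- stability of the semidirect product
  have hst : StableOnNormal p (G ⋊[A.subtype] ↥A) := by
    by_contra hns
    refine hfix ?_
    have hs := psl_of_not_stable hp (Nat.card (G ⋊[A.subtype] ↥A)) (G ⋊[A.subtype] ↥A) K j.range le_rfl hKA hcop (hcardA ▸ hAp)
      (Group.isSolvable_of_surjective (f := j.rangeRestrict) j.rangeRestrict_surjective) hns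
    have hleft : ∀ x : ↥(K ⊓ centralizer (j.range : Set (G ⋊[A.subtype] ↥A))), i (x : (G ⋊[A.subtype] ↥A)).left = x := by
      rintro ⟨x, ⟨g, rfl⟩, -⟩; rfl
    let f : ↥(K ⊓ centralizer (j.range : Set (G ⋊[A.subtype] ↥A))) →* ↥C := MonoidHom.mk'
      (fun x => ⟨(x : (G ⋊[A.subtype] ↥A)).left, hC _ fun a ha => by
        have h := mem_centralizer_iff.mp x.2.2 (j ⟨a, ha⟩) ⟨_, rfl⟩
        rw [← hleft x] at h
        apply inl_injective (φ := A.subtype)
        show i ((A.subtype ⟨a, ha⟩) (x : (G ⋊[A.subtype] ↥A)).left) = i (x : (G ⋊[A.subtype] ↥A)).left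
        rw [hi, inl_aut, map_inv, ← hi, ← hj, h, mul_inv_cancel_right]⟩)
      (fun x y => Subtype.ext (inl_injective (φ := A.subtype) (by
        show i (x * y : (G ⋊[A.subtype] ↥A)).left = i ((x : (G ⋊[A.subtype] ↥A)).left * (y : (G ⋊[A.subtype] ↥A)).left)
        rw [map_mul, hleft x, hleft y]
        exact hleft (x * y))))
    refine hs.of_injective (f := f) fun x y e => Subtype.ext ?_
    rw [← hleft x, ← hleft y]
    exact congrArg (fun z : C => i (z : G)) e
  -- constraint
  set P := (pCore p G).map i with hP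
  haveI hPn : P.Normal := ⟨by
    rintro _ ⟨n, hn, rfl⟩ x
    rw [← inl_left_mul_inr_right x, _root_.mul_inv_rev,
      show i x.left * inr x.right * i n * ((inr x.right)⁻¹ * (i x.left)⁻¹)
        = i x.left * (inr x.right * i n * (inr x.right)⁻¹) * (i x.left)⁻¹ by simp [mul_assoc], hi, ← map_inv inr x.right, ← inl_aut,
      ← map_inv, ← map_mul, ← map_mul]
    refine ⟨_, (inferInstance : (pCore p G).Normal).conj_mem _ ?_ x.left, rfl⟩
    have := Cores.pCore_map_mulEquiv (p := p) (A.subtype x.right)
    rw [← this]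
    exact ⟨n, hn, rfl⟩⟩
  have hPp : IsPGroup p P := Cores.pCore_isPGroup.map _
  have hCp : IsPGroup p ↥(centralizer (P : Set (G ⋊[A.subtype] ↥A))) := by
    have key : ∀ x ∈ centralizer (P : Set (G ⋊[A.subtype] ↥A)), (orderOf x).Coprime p → x = 1 := by
      intro x hx hox
      have hfixG : ∀ g : G, x * i g = i g * x := by
        intro g
        set z := x * i g * x⁻¹ * (i g)⁻¹ with hz
        have hzC : z ∈ centralizer (P : Set (G ⋊[A.subtype] ↥A)) := by
          rw [hz, mul_assoc, mul_assoc, ← mul_assoc (i g)]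
          exact mul_mem hx ((inferInstance : (centralizer (P : Set (G ⋊[A.subtype] ↥A))).Normal).conj_mem _ (inv_mem hx) _)
        have hzK : z ∈ K := mul_mem ((inferInstance : K.Normal).conj_mem _ ⟨g, rfl⟩ x) (inv_mem ⟨g, rfl⟩)
        obtain ⟨z0, hz0⟩ := hzK
        have hz0P : z0 ∈ pCore p G := hc (mem_centralizer_iff.mpr fun y hy => inl_injective (φ := A.subtype) (by
          rw [← hi, map_mul, map_mul, hz0]
          exact mem_centralizer_iff.mp hzC _ ⟨y, hy, rfl⟩))
        have hzP : z ∈ P := ⟨z0, hz0P, hz0⟩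
        have hxz : Commute x z := (mem_centralizer_iff.mp hx z hzP).symm
        have hxg : x * i g = z * i g * x := by rw [hz]; simp [mul_assoc]
        have hn : ∀ m : ℕ, x ^ m * i g = z ^ m * i g * x ^ m := by
          intro m
          induction m with
          | zero => simp
          | succ m ihm =>
            calc x ^ (m + 1) * i g = x * (x ^ m * i g) := by rw [pow_succ', mul_assoc]
              _ = (x * z ^ m) * (i g * x ^ m) := by rw [ihm]; simp only [mul_assoc]
              _ = z ^ m * ((x * i g) * x ^ m) := by rw [(hxz.pow_right m).eq]; simp only [mul_assoc]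
              _ = _ := by rw [hxg, pow_succ z, pow_succ' x]; simp only [mul_assoc]
        have h1 := hn (orderOf x)
        rw [pow_orderOf_eq_one, one_mul, mul_one] at h1
        obtain ⟨k, hk⟩ := IsPGroup.iff_card.mp hPp
        have hz1 : z = 1 := orderOf_eq_one_iff.mp (Nat.eq_one_of_dvd_coprimes (hox.pow_right k)
          (orderOf_dvd_of_pow_eq_one (right_eq_mul.mp h1)) (hk ▸ Subgroup.orderOf_dvd_natCard P hzP))
        rw [hxg, hz1, one_mul]
      have hinner : A.subtype x.right = MulAut.conj x.left⁻¹ := by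
        refine MulEquiv.ext fun g => inl_injective (φ := A.subtype) ?_
        rw [inl_aut, map_inv, MulAut.conj_apply, inv_inv, map_mul, map_mul, map_inv, ← hi]
        have h := hfixG g
        have e : x = i x.left * inr x.right := (inl_left_mul_inr_right x).symm
        rw [e] at h
        calc inr x.right * i g * (inr x.right)⁻¹
            = (i x.left)⁻¹ * (i x.left * inr x.right * i g) * (inr x.right)⁻¹ := by simp [mul_assoc]
          _ = _ := by rw [h]; simp [mul_assoc]
      have hr : x.right = 1 := by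
        refine orderOf_eq_one_iff.mp (Nat.eq_one_of_dvd_coprimes hA (orderOf_dvd_natCard x.right) ?_)
        rw [← orderOf_injective A.subtype A.subtype_injective, hinner]
        exact (orderOf_map_dvd MulAut.conj _).trans (orderOf_dvd_natCard _)
      have hxi : x = i x.left := by
        conv_lhs => rw [← inl_left_mul_inr_right x, hr, map_one, mul_one]
      have hlP : x.left ∈ pCore p G := hc (mem_centralizer_iff.mpr fun y hy => inl_injective (φ := A.subtype) (by
        rw [← hi, map_mul, map_mul, ← hxi]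
        exact mem_centralizer_iff.mp hx _ ⟨y, hy, rfl⟩))
      obtain ⟨k, hk⟩ := IsPGroup.iff_card.mp hPp
      refine orderOf_eq_one_iff.mp (Nat.eq_one_of_dvd_coprimes (hox.pow_right k) dvd_rfl ?_)
      exact hk ▸ Subgroup.orderOf_dvd_natCard P (hxi ▸ mem_map_of_mem i hlP)
    rintro ⟨x, hx⟩
    obtain ⟨k, hk⟩ := Cfsg.Agent.Fusion.exists_pow_coprime (p := p) x
    exact ⟨k, Subtype.ext (key _ (pow_mem hx _) hk)⟩
  have hcH : centralizer (pCore p (G ⋊[A.subtype] ↥A) : Set (G ⋊[A.subtype] ↥A)) ≤ pCore p (G ⋊[A.subtype] ↥A) :=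
    (centralizer_le (Cores.le_pCore hPp)).trans (Cores.le_pCore hCp)
  let S' : Sylow p (G ⋊[A.subtype] ↥A) := Sylow.ofCard ((S : Subgroup G).map i) (by
    rw [card_map_of_injective inl_injective, S.card_eq_multiplicity, SemidirectProduct.card,
      Nat.factorization_mul Nat.card_pos.ne' Nat.card_pos.ne', Finsupp.add_apply,
      Nat.factorization_eq_zero_of_not_dvd ((Fact.out : p.Prime).coprime_iff_not_dvd.mp hAp.symm), add_zero])
  have hn := zjay_zero_normal hp2 hcH hst S'
  rw [show zjay 0 (S' : Subgroup (G ⋊[A.subtype] ↥A)) = (zjay 0 (S : Subgroup G)).map i from zjay_map i inl_injective] at hn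
  have := hn.comap i
  rwa [comap_map_eq_self_of_injective inl_injective] at this

end Cfsg.Agent.H42.Eqv
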